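import Mathlib
import Cfsg.Agent.H404.K6.Red
import Cfsg.Agent.H61.K6.Cyc
import Cfsg.Agent.S0960
import Cfsg.Agent.H634.Small
import Cfsg.Agent.SmallSimple.SylowPrimeCount

/-!
# S4876 (`k(B₀) = 6`): assembly without the rows (helper693)

* `sq_dvd` : `p` odd, `k(B₀) = 6`: `p² ∣ |G|`;
* `ne_six` : `|P| ≠ 9`: `k(B₀) ≠ 6`, from S4822 (`p ≥ 11`), S4925 (`p = 2`), case A and the rows.
-/

set_option autoImplicit false

open Cfsg Subgroup

namespace Cfsg.Agent.H693.K6

open Cfsg.Agent.H61.K6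

universe u

/-- `p` odd and `k(B₀) = 6`: `p² ∣ |G|` -/
theorem sq_dvd {G : Type u} [Group G] [Finite G] {p : ℕ} [hp : Fact p.Prime] (hp2 : p ≠ 2)
    {M : Ideal AlgInt} (hM : IsPModular p M) (hk : Nat.card (principalBlock M G) = 6) : p ^ 2 ∣ Nat.card G := by
  by_contra hp2'
  obtain ⟨P⟩ : Nonempty (Sylow p G) := inferInstance
  obtain ⟨n, hn⟩ := IsPGroup.iff_card.1 P.isPGroup'
  have hn2 : n < 2 := by
    by_contra hcon
    exact hp2' ((pow_dvd_pow p (by omega : 2 ≤ n)).trans (hn ▸ Subgroup.card_subgroup_dvd_card (P : Subgroup G)))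
  have hn01 : n = 0 ∨ n = 1 := by omega
  rcases hn01 with rfl | rfl
  · rw [pow_zero] at hn
    have hc := H634.Asm.compl_of_card_one P hn
    have h1 := H634.Small.card_of_compl hM hc
    have h2 := H634.Small.index_eq P hc
    rw [hn] at h2
    have h3 : Subsingleton (G ⧸ pPrimeCore p G) := (Nat.card_eq_one_iff_unique.1 h2).1
    have h4 : Nat.card (ConjClasses (G ⧸ pPrimeCore p G)) ≤ Nat.card (G ⧸ pPrimeCore p G) :=
      Nat.card_le_card_of_surjective _ (ConjClasses.mk_surjective)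
    omega
  · rw [pow_one] at hn
    have h1 := (S0960.result p M hM hp2 P hn _ rfl).1
    have h2 := SmallSimple.SylowPrimeCount.relIndex_dvd_pred hp.out (P := (P : Subgroup G)) hn
    rw [hk] at h1
    generalize (Subgroup.centralizer ((P : Subgroup G) : Set G)).relIndex
      (Subgroup.normalizer ((P : Subgroup G) : Set G)) = e at h1 h2
    obtain ⟨f, hf⟩ := h2
    have hp1 := hp.out.two_le
    have he : 0 < e := by
      rcases Nat.eq_zero_or_pos e with h0 | h0
      · rw [h0, zero_mul] at hf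
        omega
      · exact h0
    rw [hf, Nat.mul_div_cancel_left _ he] at h1
    have he5 : e ≤ 6 := by omega
    have hpn := hp.out
    interval_cases e
    · have : p = 6 := by omega
      subst this
      norm_num at hpn
    · have : p = 9 := by omega
      subst this
      norm_num at hpn
    · have : p = 10 := by omega
      subst this
      norm_num at hpn
    · have : p = 9 := by omega
      subst this
      norm_num at hpn
    · have : p = 6 := by omega
      subst this
      norm_num at hpn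
    · omega

/-- the case `p = 2` of S4925, in the form used -/
def Four : Prop :=
  ∀ (G : Type u) [Group G] [Finite G] (M : Ideal AlgInt), IsPModular 2 M → ∀ P : Sylow 2 G,
    Nat.card {χ : IrrCharacter G // χ ∈ principalBlock M G ∧ ¬ 2 ∣ charDegree (χ : G → ℂ)} = 4 →
      (commutator ↥(P : Subgroup G)).index = 4

/-- S4822 for `p ≥ 11` -/
def Sqrt : Prop :=
  ∀ (G : Type u) [Group G] [Finite G] (p : ℕ) [Fact p.Prime], p ∣ Nat.card G → ∀ M : Ideal AlgInt,
    IsPModular p M → 4 * (p - 1) ≤ Nat.card (principalBlock M G) ^ 2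

/-- the rows: all simple groups -/
def Rows : Prop :=
  ∀ (p : ℕ) [Fact p.Prime], p = 3 ∨ p = 5 ∨ p = 7 → ∀ (S : Type u) [Group S] [Finite S], IsSimpleGroup S →
    (¬ ∀ x y : S, Commute x y) → p ^ 2 ∣ Nat.card S → (p = 3 → 27 ∣ Nat.card S) → KRow.{u, u} p S

/-- **`|P| ≠ 9` implies `k(B₀) ≠ 6`.** -/
theorem ne_six (hsq : Sqrt.{u})
    (htwo : ∀ (G : Type u) [Group G] [Finite G] (M : Ideal AlgInt), IsPModular 2 M →
      Nat.card (principalBlock M G) ≠ 6)
    (hA : ∀ p : ℕ, Fact p.Prime → p = 3 ∨ p = 5 ∨ p = 7 → H404.K6.CaseA.{u} p) (hrows : Rows.{u})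
    {G : Type u} [Group G] [Finite G] {p : ℕ} [hp : Fact p.Prime] {M : Ideal AlgInt} (hM : IsPModular p M)
    (P : Sylow p G) (h9 : Nat.card (P : Subgroup G) ≠ 9) : Nat.card (principalBlock M G) ≠ 6 := by
  intro hk
  by_cases hp2 : p = 2
  · subst hp2
    exact htwo G M hM hk
  have h2 := sq_dvd hp2 hM hk
  have hpd : p ∣ Nat.card G := (dvd_pow_self p two_ne_zero).trans h2
  have hle := hsq G p hpd M hM
  rw [hk] at hle
  have hpp := hp.out
  have hp11 : p ≤ 10 := by omega
  have h357 : p = 3 ∨ p = 5 ∨ p = 7 := by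
    have hp1 := hpp.two_le
    interval_cases p
    · exact absurd rfl hp2
    · exact Or.inl rfl
    · exact absurd hpp (by norm_num)
    · exact Or.inr (Or.inl rfl)
    · exact absurd hpp (by norm_num)
    · exact Or.inr (Or.inr rfl)
    · exact absurd hpp (by norm_num)
    · exact absurd hpp (by norm_num)
    · exact absurd hpp (by norm_num)
  have h3 : p = 3 → 27 ∣ Nat.card G := by
    intro h
    subst h
    obtain ⟨n, hn⟩ := IsPGroup.iff_card.1 P.isPGroup'
    have h4 : 3 ^ 2 ∣ Nat.card (P : Subgroup G) := P.pow_dvd_card_of_pow_dvd_card h2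
    rw [hn] at h4 h9
    have h5 : 2 ≤ n := (Nat.pow_dvd_pow_iff_le_right (by norm_num)).1 h4
    have h6 : n ≠ 2 := by
      rintro rfl
      exact h9 (by norm_num)
    have h7 : 3 ^ 3 ∣ Nat.card (P : Subgroup G) := by
      rw [hn]
      exact pow_dvd_pow 3 (by omega)
    exact h7.trans (Subgroup.card_subgroup_dvd_card (P : Subgroup G))
  have h7 := H404.K6.seven_of_rows hp2 hM (hA p hp h357)
    (fun S _ _ h1 h2 h3 h4 => hrows p h357 S h1 h2 h3 h4) G h2 h3
  omega

/-- a cyclic Sylow subgroup in the rows -/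
theorem row_of_cyclic {p : ℕ} [hp : Fact p.Prime] (hp3 : p = 3 ∨ p = 5 ∨ p = 7) {S : Type u} [Group S] [Finite S]
    (h2 : p ^ 2 ∣ Nat.card S) (h3 : p = 3 → 27 ∣ Nat.card S) (P : Sylow p S) (hc : IsCyclic (P : Subgroup S)) :
    KRow.{u, u} p S := by
  refine KRow.of_cyclic P hc ?_
  have h4 : p ^ 2 ∣ Nat.card (P : Subgroup S) := P.pow_dvd_card_of_pow_dvd_card h2
  rcases hp3 with rfl | rfl | rfl
  · have h5 : 3 ^ 3 ∣ Nat.card (P : Subgroup S) := P.pow_dvd_card_of_pow_dvd_card (h3 rfl)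
    have := Nat.le_of_dvd Nat.card_pos h5
    omega
  · have := Nat.le_of_dvd Nat.card_pos h4
    omega
  · have := Nat.le_of_dvd Nat.card_pos h4
    omega

end Cfsg.Agent.H693.K6
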