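import Cfsg.Agent.H617.Pb.Defs

/-!
# S4876 (`k(B₀) = 6`): interface (hub helper693)

The rows are statements about a nonabelian simple group `S`, in the language of `Cfsg.Agent.H617.Pb` (`k0`, `orb`, `eps`,
`Adm`, `Loc`, `Big`, `Cen`):

* `Row p S` : every almost simple group `A ≤ Aut(S)` over `S` with `p ∤ |A : S|` all of whose characters in the principal
  block have degree prime to `p` has `k(B₀(A)) ≥ 7`;
* `Pel p x` : `x` is a nontrivial `p`-element;
* `Sep u L` : the elements `u i` are pairwise not conjugate under the group `L` of automorphisms;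
* `Nine S` : the statement needed about the simple groups with `|S|_3 = 9`.
-/

set_option autoImplicit false
open Cfsg Cfsg.Agent.H617.Pb

namespace Cfsg.Agent.H693.K6

universe u v

/-- all characters of the principal block have degree prime to `p` -/
def Hz (p : ℕ) (M : Ideal AlgInt) (G : Type u) [Group G] : Prop :=
  ∀ χ : IrrCharacter G, χ ∈ principalBlock M G → ¬ p ∣ charDegree (χ : G → ℂ)

/-- **the row of `S`** -/
def Row (p : ℕ) (S : Type u) [Group S] : Prop :=
  ∀ M : Ideal AlgInt, IsPModular p M → ∀ A : Subgroup (MulAut S), Adm p S A → Hz p M ↥A → 7 ≤ k0 M ↥A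

/-- a nontrivial `p`-element -/
def Pel (p : ℕ) {S : Type u} [Group S] (x : S) : Prop := (∃ k : ℕ, orderOf x = p ^ k) ∧ x ≠ 1

/-- pairwise not conjugate under the automorphisms in `L` -/
def Sep {S : Type u} [Group S] (L : Subgroup (MulAut S)) {n : ℕ} (u : Fin n → S) : Prop :=
  ∀ i j, ∀ a ∈ L, a (u i) = u j → i = j

/-- enough Sylow `p`-subgroup: `p ^ 2` divides the order, `27` if `p = 3` -/
def Enough (p : ℕ) (S : Type u) [Group S] : Prop := p ^ 2 ∣ Nat.card S ∧ (p = 3 → 27 ∣ Nat.card S)

end Cfsg.Agent.H693.K6
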