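import Cfsg.Agent.H693.K6.Rest
import Cfsg.Agent.H734.K6.RowPSL
import Cfsg.Agent.H166.K6.PsuD
import Cfsg.Agent.H193.K6.PspFourRow
import Cfsg.Agent.H418.K6.PspMore
import Cfsg.Agent.H683.K6.ORows
import Cfsg.Agent.H683.K6.OFourRow
import Cfsg.Agent.H349.K6.Exc
import Cfsg.Agent.H349.K6.ExcThree
import Cfsg.Agent.H349.KBE.RowG2
import Cfsg.Agent.H35.K6.RowOne
import Cfsg.Agent.H292.K6.RowMore
import Cfsg.Agent.H210.K6.Row
import Cfsg.Agent.H228.K6.RowE6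
import Cfsg.Agent.H228.K6.RowE7
import Cfsg.Agent.H726.K6.RowE8
import Cfsg.Agent.H228.K6.RowsTwo
import Cfsg.Agent.H228.K6.RowTD4

/-!
# S4876 (`k(B₀) = 6`): the rows of the groups of Lie type, collected (helper693)

`lieRows` : `LieRows p`.
-/

set_option autoImplicit false

open Cfsg Subgroup

namespace Cfsg.Agent.H693.K6

open Cfsg.Agent.H61.K6 Cfsg.Agent.H436 Cfsg.Agent.OrdDiv

universe u

theorem h57_of {p : ℕ} (hp3 : p = 3 ∨ p = 5 ∨ p = 7) {q : ℕ} (hq : ¬ p ∣ q) (hd : ¬ p ∣ q ^ 2 - 1) : p = 5 ∨ p = 7 := by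
  rcases hp3 with rfl | h
  · exfalso
    have h1 : q % 3 = 1 ∨ q % 3 = 2 := by omega
    have h2 : q ^ 2 % 3 = 1 := by
      rw [Nat.pow_mod]
      rcases h1 with h1 | h1 <;> rw [h1]
    have h3 : 1 ≤ q ^ 2 := Nat.one_le_pow _ _ (by omega)
    omega
  · exact h

theorem cast_ne {F : Type} [Field F] [Fintype F] {p : ℕ} (hp : p.Prime) (h : ¬ p ∣ Fintype.card F) : (p : F) ≠ 0 := by
  intro h0
  obtain ⟨r, hr⟩ := CharP.exists F
  have hrp : r.Prime := (CharP.char_is_prime_or_zero F r).resolve_right (CharP.char_ne_zero_of_finite F r)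
  have h1 : r ∣ p := (CharP.cast_eq_zero_iff F r p).1 h0
  have h2 : r = p := (Nat.prime_dvd_prime_iff_eq hrp hp).1 h1
  subst h2
  have hfr : Fact r.Prime := ⟨hrp⟩
  obtain ⟨n, -, hn⟩ := FiniteField.card F r
  exact h (hn ▸ dvd_pow_self r n.2.ne')

theorem one_le_of {p q : ℕ} (hq : ¬ p ∣ q) : 1 ≤ q := by
  rcases Nat.eq_zero_or_pos q with rfl | h
  · exact absurd (dvd_zero p) hq
  · exact h

/-- `F₄(q)` -/
theorem f4_more {p : ℕ} [hp : Fact p.Prime] (h57 : p = 5 ∨ p = 7) {q : ℕ} (hq : ¬ p ∣ q) (hd : ¬ p ∣ q ^ 2 - 1) :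
    RowOf.{u} p (.f4 q) := by
  intro S _ _ _ _ h
  obtain ⟨F, _, _, hF, ⟨e⟩⟩ := h.real
  exact KRow.congr e.symm (H228.K6.row_F4 hF h57 hq hd)

/-- `E₇(q)` -/
theorem e7_more {p : ℕ} [hp : Fact p.Prime] (h57 : p = 5 ∨ p = 7) {q : ℕ} (hq : ¬ p ∣ q) (hd : ¬ p ∣ q ^ 2 - 1) :
    RowOf.{u} p (.e7 q) := by
  intro S _ _ _ _ h
  obtain ⟨F, _, _, hF, ⟨e⟩⟩ := h.real
  refine KRow.congr e.symm ?_
  rcases h57 with rfl | rfl
  · exact H228.K6.row_E7 hF ⟨rfl, H228.K6.order_five (H228.K6.cases_five (one_le_of hq) hq hd)⟩ hq hd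
  · have h7 : ((7 : ℕ) : F) ≠ 0 := cast_ne (by norm_num) (by rw [hF]; exact hq)
    have h7' : (7 : F) ≠ 0 := by exact_mod_cast h7
    rcases H228.K6.cases_seven (one_le_of hq) hq hd with (h1 | h1) | (h1 | h1)
    · exact H228.K6.E7.e7_2 h7' hF h1
    · exact H228.K6.E7.e7_4 h7' hF h1
    · exact H228.K6.E7.e7_3 h7' hF h1
    · exact H228.K6.E7.e7_5 h7' hF h1

/-- `E₈(q)` -/
theorem e8_more {p : ℕ} (h57 : p = 5 ∨ p = 7) {q : ℕ} (hq : ¬ p ∣ q) (hd : ¬ p ∣ q ^ 2 - 1) :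
    RowOf.{u} p (.e8 q) := by
  intro S _ _ _ _ h
  obtain ⟨F, _, _, hF, ⟨e⟩⟩ := h.real
  refine KRow.congr e.symm ?_
  rcases h57 with rfl | rfl
  · have h5 : ((5 : ℕ) : F) ≠ 0 := cast_ne (by norm_num) (by rw [hF]; exact hq)
    exact H726.K6.krow_E8_5 (by exact_mod_cast h5) (by rw [hF]; exact hd)
  · have h7 : ((7 : ℕ) : F) ≠ 0 := cast_ne (by norm_num) (by rw [hF]; exact hq)
    exact H726.K6.krow_E8_7 (by exact_mod_cast h7) (by rw [hF]; exact hd)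

/-- `E₆(q)` -/
theorem e6_more {p : ℕ} [hp : Fact p.Prime] (h57 : p = 5 ∨ p = 7) {q : ℕ} (hq : ¬ p ∣ q) (hd : ¬ p ∣ q ^ 2 - 1) :
    RowOf.{u} p (.e6 q) := by
  intro S _ _ _ _ h
  obtain ⟨F, _, _, hF, ⟨e⟩⟩ := h.real
  refine KRow.congr e.symm ?_
  rcases h57 with rfl | rfl
  · exact H228.K6.row_E6 hF (Or.inl ⟨rfl, H228.K6.order_five (H228.K6.cases_five (one_le_of hq) hq hd)⟩) hq hd
  · have h7 : ((7 : ℕ) : F) ≠ 0 := cast_ne (by norm_num) (by rw [hF]; exact hq)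
    have h7' : (7 : F) ≠ 0 := by exact_mod_cast h7
    rcases H228.K6.cases_seven (one_le_of hq) hq hd with (h1 | h1) | h1
    · exact H228.K6.E6.e6_2 h7' hF h1
    · exact H228.K6.E6.e6_4 h7' hF h1
    · exact H228.K6.row_E6 hF (Or.inr ⟨rfl, H228.K6.order_seven_six h1⟩) hq hd

/-- `²E₆(q)` -/
theorem te6_more {p : ℕ} [hp : Fact p.Prime] (h57 : p = 5 ∨ p = 7) {q : ℕ} (hq : ¬ p ∣ q) (hd : ¬ p ∣ q ^ 2 - 1) :
    RowOf.{u} p (.te6 q) := by
  intro S _ _ _ _ h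
  obtain ⟨F, _, _, hF, ⟨e⟩⟩ := h.real
  refine KRow.congr e.symm ?_
  rcases h57 with rfl | rfl
  · exact H228.K6.row_TE6 h.cond hF
      (Or.inl ⟨rfl, H228.K6.order_five (H228.K6.cases_five (one_le_of hq) hq hd)⟩) hq hd
  · have h7 : ((7 : ℕ) : F) ≠ 0 :=
      cast_ne (by norm_num) (by rw [hF]; exact fun h => hq ((by norm_num : Nat.Prime 7).dvd_of_dvd_pow h))
    have h7' : (7 : F) ≠ 0 := by exact_mod_cast h7
    rcases H228.K6.cases_seven (one_le_of hq) hq hd with h1 | (h1 | h1)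
    · exact H228.K6.row_TE6 h.cond hF (Or.inr ⟨rfl, H228.K6.order_seven_three h1⟩) hq hd
    · exact H228.K6.E6.te6_3 h7' h.cond hF h1
    · exact H228.K6.E6.te6_5 h7' h.cond hF h1

/-- `³D₄(q)` -/
theorem td4_more {p : ℕ} [hp : Fact p.Prime] (h57 : p = 5 ∨ p = 7) {q : ℕ} (hq : ¬ p ∣ q) (hd : ¬ p ∣ q ^ 2 - 1) :
    RowOf.{u} p (.td4 q) := by
  intro S _ _ _ hR h
  obtain ⟨F, _, _, hF, ⟨e⟩⟩ := h.real
  refine KRow.congr e.symm ?_
  refine H228.K6.row_TD4 h.cond hF h57 hq hd ?_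
  rw [← Nat.card_congr e.toEquiv]
  exact (dvd_pow_self p two_ne_zero).trans hR.two

/-- `G₂(q)` with noncyclic Sylow `p`-subgroups: `p ∣ q² - 1` -/
theorem dvd_g2 {p : ℕ} [hp : Fact p.Prime] (h57 : p = 5 ∨ p = 7) {q : ℕ} {S : Type u} [Group S] [Finite S]
    (h : IsNamed (.g2 q) S) (hq : ¬ p ∣ q) (hnc : ∀ Q : Sylow p S, ¬ IsCyclic (Q : Subgroup S)) : p ∣ q ^ 2 - 1 := by
  obtain ⟨F, _, _, hF, ⟨e⟩⟩ := h.real
  obtain ⟨r, hr⟩ := CharP.exists F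
  have hrp : r.Prime := (CharP.char_is_prime_or_zero F r).resolve_right
    (CharP.char_ne_zero_of_finite F r)
  have hfr : Fact r.Prime := ⟨hrp⟩
  have hne : r ≠ p := by
    rintro rfl
    apply hq
    rw [← hF]
    obtain ⟨n, -, hn⟩ := FiniteField.card F r
    rw [hn]
    exact dvd_pow_self r n.2.ne'
  have h1 := H349.KBE.dvd_of_nc (F := F) hne (by rcases h57 with rfl | rfl <;> norm_num)
    (H349.KBE.sylow_equiv e hnc)
  rwa [hF] at h1

variable {p : ℕ} [hp : Fact p.Prime]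

theorem row_exc (hp3 : p = 3 ∨ p = 5 ∨ p = 7) (q : ℕ) (g : Grp)
    (hg : g = .g2 q ∨ g = .f4 q ∨ g = .e6 q ∨ g = .e7 q ∨ g = .e8 q ∨ g = .te6 q ∨ g = .td4 q) (hq : ¬ p ∣ q) :
    RowOf.{u} p g := by
  intro S _ _ _ hR h
  rcases hp3 with rfl | h57
  · exact H349.K6.exc_three hg h hq
  · by_cases hd : p ∣ q ^ 2 - 1
    · exact H349.K6.exc_one h57 hg h hq hd
    · rcases hg with rfl | rfl | rfl | rfl | rfl | rfl | rfl
      · exact absurd (dvd_g2 h57 h hq hR.nc) hd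
      · exact f4_more h57 hq hd S hR h
      · exact e6_more h57 hq hd S hR h
      · exact e7_more h57 hq hd S hR h
      · exact e8_more h57 hq hd S hR h
      · exact te6_more h57 hq hd S hR h
      · exact td4_more h57 hq hd S hR h

theorem row_psl' (hp3 : p = 3 ∨ p = 5 ∨ p = 7) (n q : ℕ) (hq : ¬ p ∣ q) : RowOf.{u} p (.psl n q) :=
  fun _ _ _ _ hR h => H734.K6.row_psl hp3 hR.three hR.nc h hq

theorem row_psu' (hp2 : p ≠ 2) (n q : ℕ) (hq : ¬ p ∣ q) : RowOf.{u} p (.psu n q) :=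
  fun _ _ _ _ hR h => H166.K6.row_psu hp2 hR.nab ((dvd_pow_self p two_ne_zero).trans hR.two) hR.three hR.nc h hq

theorem lieRows (hp3 : p = 3 ∨ p = 5 ∨ p = 7) : LieRows.{u} p where
  psl3 q hq := row_psl' hp3 3 q hq
  psl1 n q _ hq _ := row_psl' hp3 n q hq
  psl2 n q _ hq _ := row_psl' hp3 n q hq
  psl_more n q hq _ := row_psl' hp3 n q hq
  psu3 q hq := row_psu' (by rcases hp3 with rfl | rfl | rfl <;> norm_num) 3 q hq
  psu1 n q _ hq _ := row_psu' (by rcases hp3 with rfl | rfl | rfl <;> norm_num) n q hq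
  psu2 n q _ hq _ := row_psu' (by rcases hp3 with rfl | rfl | rfl <;> norm_num) n q hq
  psu_more n q hq _ := row_psu' (by rcases hp3 with rfl | rfl | rfl <;> norm_num) n q hq
  psp_four q hq S _ _ _ hR h := H193.K6.psp_four (by rcases hp3 with rfl | rfl | rfl <;> norm_num)
    ((dvd_pow_self p two_ne_zero).trans hR.two) hR.three hR.nc h hq
  psp_one m q hm hq hd S _ _ _ hR h := H418.K6.psp_one hp3 hR.nab hR.two hm h hq hd
  psp_more m q hm hq hd S _ _ _ hR h := H418.K6.psp_more hp3 hR.nab hR.two hR.nc hm h hq hd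
  oodd_one m q _ hd S _ _ _ _ h := H35.K6.oodd_one (by rcases hp3 with rfl | rfl | rfl <;> norm_num) h hd
  oodd_more m q hq hd S _ _ _ hR h := H292.K6.oodd_more (h57_of hp3 hq hd) hR.nc h hq hd
  oplus_one m q hm _ hd S _ _ _ _ h := H35.K6.oplus_one (by rcases hp3 with rfl | rfl | rfl <;> norm_num) hm h hd
  oplus_more m q hm hq hd S _ _ _ hR h := H292.K6.oplus_more (h57_of hp3 hq hd) hR.nc hm h hq hd
  oplus_four q hq S _ _ _ hR h := by
    by_cases hd : p ∣ q ^ 2 - 1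
    · exact H683.K6.krow_oplus_four hp3 hR.nab ((dvd_pow_self p two_ne_zero).trans hR.two) h hq hd
    · exact H683.K6.krow_oplus_four_more hp3 hR.nab hR.nc h hq hd
  ominus_one m q _ hd S _ _ _ _ h := H35.K6.ominus_one (by rcases hp3 with rfl | rfl | rfl <;> norm_num) h hd
  ominus_more m q hq hd S _ _ _ hR h := H292.K6.ominus_more (h57_of hp3 hq hd) hR.nc h hq hd
  g2 q hq := row_exc hp3 q _ (by simp) hq
  f4 q hq := row_exc hp3 q _ (by simp) hq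
  e6 q hq := row_exc hp3 q _ (by simp) hq
  e7 q hq := row_exc hp3 q _ (by simp) hq
  e8 q hq := row_exc hp3 q _ (by simp) hq
  te6 q hq := row_exc hp3 q _ (by simp) hq
  td4 q hq := row_exc hp3 q _ (by simp) hq
  tf4 q S _ _ _ hR h := H210.K6.tf4 h hR.pr hR.two

end Cfsg.Agent.H693.K6
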