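import Cfsg.Agent.H693.K6.Disp
import Cfsg.Agent.S0262

/-!
# S4876: `PSL₂(q)`, cross characteristic: the Sylow subgroups are cyclic (helper693)
-/

set_option autoImplicit false

open Cfsg Subgroup

namespace Cfsg.Agent.H693.K6

open Cfsg.Agent.H61.K6 Cfsg.Agent.H436 Cfsg.Agent.OrdDiv Matrix

universe u

theorem cyclic_of_surjective {G S : Type*} [Group G] [Finite G] [Group S] [Finite S] {p : ℕ}
    [Fact p.Prime] (hc : ∀ P : Sylow p G, IsCyclic P) (f : G →* S) (hf : Function.Surjective f)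
    (P : Sylow p S) : IsCyclic P := by
  obtain ⟨Q⟩ : Nonempty (Sylow p G) := inferInstance
  have hQ := hc Q
  let P' : Sylow p S := Q.mapSurjective hf
  have hP' : IsCyclic (P' : Subgroup S) := by
    have h7 : (P' : Subgroup S) = (Q : Subgroup G).map f := Sylow.coe_mapSurjective _ _
    rw [h7]
    exact isCyclic_of_surjective (f.subgroupMap (Q : Subgroup G))
      (f.subgroupMap_surjective _)
  exact isCyclic_of_surjective (P'.equiv P) (P'.equiv P).surjective

theorem linTwo {p : ℕ} [hp : Fact p.Prime] (hp2 : p ≠ 2) : LinTwoCyclic.{u} p := by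
  intro q hq S _ _ _ hR h
  exfalso
  obtain ⟨F, i1, i2, hF, ⟨e⟩⟩ := h.real
  obtain ⟨r, hchar⟩ := CharP.exists F
  have hr : Fact r.Prime := ⟨CharP.char_is_prime F r⟩
  obtain ⟨N, -, hN⟩ := FiniteField.card F r
  have hpr : p ≠ r := by
    rintro rfl
    exact hq (hF ▸ hN ▸ dvd_pow_self p N.2.ne')
  obtain ⟨P⟩ : Nonempty (Sylow p S) := inferInstance
  exact hR.nc P (cyclic_of_surjective (fun Q => Cfsg.Agent.S0262.result r p hp2 hpr Q)
    (e.symm.toMonoidHom.comp (QuotientGroup.mk' (center (SpecialLinearGroup (Fin 2) F))))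
    (e.symm.surjective.comp (QuotientGroup.mk'_surjective _)) P)

end Cfsg.Agent.H693.K6
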