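import Cfsg.Agent.H693.K6.SphTool
import Cfsg.Agent.H995.IMBRow

/-!
# S4876: the Baby Monster, `p = 3, 5` (helper693)
-/

set_option autoImplicit false

namespace Cfsg.Agent.H693.K6

open Cfsg Cfsg.Agent.H995.IMB Cfsg.Agent.H816.IMEig Cfsg.Agent.H995.BSch Cfsg.Agent.BabyM.Inst
open Cfsg.Agent.H61.K6
open scoped BigOperators

universe u v

theorem card_B_model : Nat.card M.G = 4154781481226426191177580544000000 := by
  have h := card_of (S := M.G) (by
    exact ⟨Cfsg.Agent.BM.KHAll.iso.symm⟩)
  exact h

theorem finite_B : Finite M.G := Nat.finite_of_card_ne_zero (by rw [card_B_model]; norm_num)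

theorem krow_b_model {p : ℕ} (hp : p = 3 ∨ p = 5) : KRow.{u, 0} p M.G := by
  have := finite_B
  obtain ⟨z₀, h1, h2⟩ := exists_z
  have hX : Nat.card (X M) = 13571955000 := card_X BabyM.Instance.all BabyM.Instance.tr
  have hfin : Finite (X M) := Nat.finite_of_card_ne_zero (by rw [hX]; norm_num)
  rcases hp with rfl | rfl
  · refine krow_of_sph ((Cfsg.Agent.H995.BSchVal.sch).isCol BabyM.Instance.all BabyM.Instance.tr)
      (x₀ := QuotientGroup.mk 1) (z₀ := z₀) h2 (by rw [h1]; exact eig2) (f := 4275362520) (by norm_num) ?_ (by norm_num)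
      (by rw [card_B_model]; norm_num) (by norm_num) ![0, -1322040, -7705920, -790287360, -3724669680] fun u => ?_
    · rw [hX]
      simp only [Fin.sum_univ_five]
      simp [t, w2]
      norm_num
    · fin_cases u <;> simp [Fin.sum_univ_five, t, w2] <;> norm_num
  · refine krow_of_sph ((Cfsg.Agent.H995.BSchVal.sch).isCol BabyM.Instance.all BabyM.Instance.tr)
      (x₀ := QuotientGroup.mk 1) (z₀ := z₀) h2 (by rw [h1]; exact eig2) (f := 4275362520) (by norm_num) ?_ (by norm_num)
      (by rw [card_B_model]; norm_num) (by norm_num) ![0, -793224, -4623552, -474172416, -2234801808] fun u => ?_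
    · rw [hX]
      simp only [Fin.sum_univ_five]
      simp [t, w2]
      norm_num
    · fin_cases u <;> simp [Fin.sum_univ_five, t, w2] <;> norm_num

/-- **The Baby Monster**, `p = 3, 5`. -/
theorem row_b {p : ℕ} (hp : p = 3 ∨ p = 5) {S : Type v} [Group S] (h : Spor.IsoB S) : KRow.{u, v} p S := by
  obtain ⟨e⟩ := h
  exact (krow_b_model hp).congr (e.trans Cfsg.Agent.BM.KHAll.iso).symm

end Cfsg.Agent.H693.K6
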