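import Cfsg.Agent.H693.K6.RankThree
import Cfsg.Agent.H30.GraphFi24A
import Cfsg.Agent.H870.IMFiTwentyThree
import Cfsg.Agent.H870.IMFiTwentyTwo

/-!
# S4876: the Fischer groups, `p = 3` (helper693)
-/

set_option autoImplicit false

namespace Cfsg.Agent.H693.K6

open Cfsg Cfsg.Agent.H690.Spor.RankThree Cfsg.Agent.H61.K6

universe u v

theorem krow_fi24 : KRow.{u, 0} 3 Spor.Fi24' := by
  have hfin : Finite Spor.Fi24' := Cfsg.Agent.H30.GraphFi24.finite_Fi24'
  letI := Cfsg.Agent.H30.GraphFi24.act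
  exact krow_of_r3 Cfsg.Agent.H30.GraphFi24.r3 (by norm_num)
    (by rw [Cfsg.Agent.H30.GraphFi24.card_F]; norm_num) (by decide +kernel)

theorem krow_fi23 : KRow.{u, 0} 3 Spor.Fi23 := by
  have hc : Nat.card Cfsg.Spor.Fi23 = 4089470473293004800 := Cfsg.Agent.Fischer.Fi23Simple.card_Fi23
  have hfin : Finite Spor.Fi23 := Nat.finite_of_card_ne_zero (by rw [hc]; norm_num)
  obtain ⟨R, hR⟩ := Cfsg.Agent.H870.IMFi23.exists_r3
  exact krow_of_r3 hR (by norm_num) (by rw [hc]; norm_num) (by decide +kernel)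

theorem krow_fi22 {S : Type v} [Group S] (h : Spor.IsoFi22 S) : KRow.{u, v} 3 S := by
  obtain ⟨e⟩ := h
  have C := Cfsg.Agent.LThreeFi22.Inst.ctx e
  letI := Cfsg.Agent.H870.IMFi22.act C
  have := C.finite
  exact krow_of_r3 (Cfsg.Agent.H870.IMFi22.r3 C) (by norm_num) (by rw [C.card]; norm_num) (by decide +kernel)

/-- **The Fischer groups**, `p = 3`. -/
theorem row_fi22 {S : Type v} [Group S] (h : Spor.IsoFi22 S) : KRow.{u, v} 3 S := krow_fi22 h

theorem row_fi23 {S : Type v} [Group S] (h : Spor.IsoFi23 S) : KRow.{u, v} 3 S := by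
  obtain ⟨e⟩ := h
  exact krow_fi23.congr e.symm

theorem row_fi24 {S : Type v} [Group S] (h : Spor.IsoFi24' S) : KRow.{u, v} 3 S := by
  obtain ⟨e⟩ := h
  exact krow_fi24.congr e.symm

end Cfsg.Agent.H693.K6
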