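import Cfsg.Agent.H693.K6.SphTool
import Cfsg.Agent.H816.IMM

/-!
# S4876: the Monster, `p = 3, 5, 7` (helper693)
-/

set_option autoImplicit false
set_option maxRecDepth 100000

namespace Cfsg.Agent.H693.K6

open Cfsg Cfsg.Agent.MonsterX.InstData
open Cfsg.Agent.H816.MEigL Cfsg.Agent.H816.MSch Cfsg.Agent.H816.MDeg Cfsg.Agent.H816.IMEig Cfsg.Agent.H816.IMEig.Col
open Cfsg.Agent.H61.K6
open scoped BigOperators

universe u v

theorem krow_of_dat {p : ℕ} (hp2 : p ≠ 2) (hd : p ^ 2 ∣ Nat.card ↥M.G) {P : Fin 9 → Fin 9 → ℤ} {θ D : ℤ}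
    {ω : Fin 9 → ℤ} {R : Fin 9 → Fin 9 → ℤ} {r : Fin 9 → ℤ} {f : ℕ}
    (h : Dat t k P 2 θ D ω R r 97239461142009186000 f) (hf : f ≠ 0) (hpf : p ∣ f)
    (hc : ∀ u, D * (p : ℤ) ∣ (k u : ℤ) * ω u - (k u : ℤ) * D) : KRow.{u, 0} p ↥M.G := by
  classical
  have := finite_G
  have hD : (D : ℂ) ≠ 0 := by exact_mod_cast h.hD
  have hE := h.toEig
  rw [← c_b1] at hE
  choose m hm using hc
  refine krow_of_sph isCol tt_eq hE hf ?_ hp2 hd hpf m fun u => ?_
  · rw [card_XT]
    exact h.toDeg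
  · have h1 : ((∑ w, t u w : ℕ) : ℂ) = (k u : ℂ) := by rw [sum9, h.hk]
    rw [h1]
    have h4 : ((k u : ℂ)) * (ω u : ℂ) - (k u : ℂ) * D = D * p * m u := by
      exact_mod_cast congrArg (fun x : ℤ => (x : ℂ)) (hm u)
    have h5 : (k u : ℂ) * ((ω u : ℂ) / (D : ℂ)) - k u = ((k u : ℂ) * (ω u : ℂ) - (k u : ℂ) * D) / D := by
      field_simp
    rw [h5, h4]
    field_simp

theorem card_M_model : Nat.card ↥M.G = 808017424794512875886459904961710757005754368000000000 :=
  Cfsg.Agent.MonsterP.EquivOf.isM_model.2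

theorem krow_m_model {p : ℕ} (hp : p = 3 ∨ p = 5 ∨ p = 7) : KRow.{u, 0} p ↥M.G := by
  rcases hp with rfl | rfl | rfl
  · exact krow_of_dat (by norm_num) (by rw [card_M_model]; norm_num) dat_36173193327999 (by norm_num) (by norm_num)
      (by decide +kernel)
  · exact krow_of_dat (by norm_num) (by rw [card_M_model]; norm_num) dat_1109944460516150 (by norm_num) (by norm_num)
      (by decide +kernel)
  · exact krow_of_dat (by norm_num) (by rw [card_M_model]; norm_num) dat_18538750076 (by norm_num) (by norm_num)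
      (by decide +kernel)

/-- **The Monster.** -/
theorem row_m {p : ℕ} (hp : p = 3 ∨ p = 5 ∨ p = 7) {S : Type v} [Group S] (h : Spor.IsoM S) : KRow.{u, v} p S := by
  obtain ⟨e⟩ := Cfsg.Agent.H816.IMM.exists_equiv h
  exact (krow_m_model hp).congr e.symm

end Cfsg.Agent.H693.K6
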