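import Cfsg.Agent.H693.K6.Rest
import Cfsg.Agent.H693.K6.RowB
import Cfsg.Agent.H693.K6.RowM
import Cfsg.Agent.H693.K6.RowFi
import Cfsg.Agent.H774.SP.Rows
import Cfsg.Agent.H774.SP.Suz
import Cfsg.Agent.H820.K6.RowJ
import Cfsg.Agent.H404.K6.SporTits
import Cfsg.Agent.H121.K6.HS
import Cfsg.Agent.H468.K6.HNFive
import Cfsg.Agent.H468.K6.Co1Seven
import Cfsg.Agent.H629.K6.Ru
import Cfsg.Agent.H387.K6.HNThree
import Cfsg.Agent.H804.K6.Ly
import Cfsg.Agent.H404.K6.RowHe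
import Cfsg.Agent.H387.K6.ThThree
import Cfsg.Agent.H734.K6.FiFive
import Cfsg.Agent.H774.SP.Ru
import Cfsg.Agent.H629.K6.CoTwo
import Cfsg.Agent.H80.K6.MTwelve
import Cfsg.Agent.H193.K6.ThFive
import Cfsg.Agent.H80.K6.Tits
import Cfsg.Agent.H774.SP.J4
import Cfsg.Agent.H349.K6.SporSeven
import Cfsg.Agent.H349.K6.SporSevenB
import Cfsg.Agent.H600.CoFive.Row
import Cfsg.Agent.H121.K6.McL
import Cfsg.Agent.H820.K6.RowHe
import Cfsg.Agent.H820.K6.RowM24
import Cfsg.Agent.H404.K6.RowON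
import Cfsg.Agent.H774.SP.Ly
import Cfsg.Agent.H629.K6.JTwo
import Cfsg.Agent.H121.K6.Co3
import Cfsg.Agent.H468.K6.HeSeven
import Cfsg.Agent.H468.K6.ONSeven
import Cfsg.Agent.H468.K6.FiSeven
import Cfsg.Agent.H387.K6.SuzFive

/-!
# S4876 (`k(B₀) = 6`): the sporadic rows, collection (helper693)
-/

set_option autoImplicit false

open Cfsg Subgroup

namespace Cfsg.Agent.H693.K6

open Cfsg.Agent.H61.K6 Cfsg.Agent.H436 Cfsg.Agent.OrdDiv

universe u

theorem spor3 : Spor3.{u} where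
  tits := fun _ _ _ _ h => H80.K6.Tits.row_tits h.real
  m12 := fun _ _ _ _ h => H80.K6.MTwelve.row_m12 h.real
  m24 := fun _ _ _ _ h => H820.K6.row_m24 h.real
  j2 := fun _ _ _ _ h => H820.K6.row_j2 h.real
  j3 := fun _ _ _ _ h => H820.K6.row_j3 h.real
  j4 := fun _ _ _ _ h => H774.SP.J4.row_j4 h.real
  co1 := fun _ _ _ _ h => H774.SP.Rows.row_co1 h.real
  co2 := fun _ _ _ _ h => H774.SP.Rows.row_co2 h.real
  co3 := fun _ _ _ _ h => H774.SP.Rows.row_co3 h.real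
  mcl := fun _ _ _ _ h => H774.SP.Rows.row_mcl h.real
  suz := fun _ _ _ _ h => H774.SP.Suz.row_suz h.real
  he := fun _ _ _ _ h => H820.K6.row_he h.real
  ru := fun _ _ _ _ h => H774.SP.Ru.row_ru h.real
  on := fun _ _ _ _ h => H404.K6.ON.row_on h.real
  ly := fun _ _ _ _ h => H774.SP.Ly.row_ly h.real
  fi22 := fun _ _ _ _ h => row_fi22 h.real
  fi23 := fun _ _ _ _ h => row_fi23 h.real
  fi24 := fun _ _ _ _ h => row_fi24 h.real
  hn := fun _ _ _ _ h => H387.K6.hn_three h.real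
  th := fun _ _ _ _ h => H387.K6.th_three h.real
  b := fun _ _ _ _ h => row_b (Or.inl rfl) h.real
  m := fun _ _ _ _ h => row_m (Or.inl rfl) h.real

theorem spor5 : Spor5.{u} where
  tits := fun _ _ _ _ h => H404.K6.Tits.row_tits h.real
  j2 := fun _ _ _ _ h => H629.K6.JTwo.row_j2 h.real
  co1 := fun _ _ _ _ h => H600.CoFive.Row.row_co1 h.real
  co2 := fun _ _ _ _ h => H629.K6.CoTwo.row_co2 h.real
  co3 := fun _ _ _ _ h => H121.K6.Co3.row_co3 h.real
  mcl := fun _ _ _ _ h => H121.K6.McL.row_mcl h.real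
  hs := fun _ _ _ _ h => H121.K6.HS.row_hs h.real
  suz := fun _ _ _ _ h => H387.K6.suz_five h.real
  he := fun _ _ _ _ h => H404.K6.He.row_he h.real
  ru := fun _ _ _ _ h => H629.K6.Ru.row_ru h.real
  ly := fun _ _ _ _ h => H804.K6.Ly.krow_ly_five h.real
  fi22 := fun _ _ _ _ h => H734.K6.Fi.row_fi22 h.real
  fi23 := fun _ _ _ _ h => H734.K6.Fi.row_fi23 h.real
  fi24 := fun _ _ _ _ h => H734.K6.Fi.row_fi24 h.real
  hn := fun _ _ _ _ h => H468.K6.hn_five h.real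
  th := fun _ _ _ _ h => H193.K6.th_five h.real
  b := fun _ _ _ _ h => row_b (Or.inr rfl) h.real
  m := fun _ _ _ _ h => row_m (Or.inr (Or.inl rfl)) h.real

theorem spor7 : Spor7.{u} where
  he := fun _ _ _ _ h => H468.K6.he_seven h.real
  on := fun _ _ _ _ h => H468.K6.on_seven h.real
  fi24 := fun _ _ _ _ h => H468.K6.fi24_seven h.real
  co1 := fun _ _ _ _ h => H468.K6.co1_seven h.real
  th := fun _ _ _ _ h => H349.K6.Th.th_seven h.real
  b := fun _ _ _ _ h => H349.K6.B.b_seven h.real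
  m := fun _ _ _ _ h => row_m (Or.inr (Or.inr rfl)) h.real

end Cfsg.Agent.H693.K6
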