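import Mathlib
import Cfsg.Agent.S4399
import Cfsg.Agent.S4481
import Cfsg.Agent.S4529
import Cfsg.Agent.S4530
import Cfsg.Agent.S0951
import Cfsg.Agent.S4691
import Cfsg.Agent.S4646
import Cfsg.Agent.H684.BlockTools
import Cfsg.Agent.H850.K5.End

/-!
# S4876 (`k(B₀) = 6`), `p = 2` (helper693)

`two_ne_six` : `k(B₀(G)) ≠ 6` for `p = 2`, from the case `p = 2` of S4925 (`k₀(B₀) = 4 → |P : P'| = 4`).
-/

set_option autoImplicit false

open Cfsg

namespace Cfsg.Agent.H693.K6.Two

open Cfsg.Agent.H634 Cfsg.Agent.H634.Cols Cfsg.Agent.H634.HypS Cfsg.Agent.H634.TwoA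
open Cfsg.Agent.Characters.Core Cfsg.Agent.Blocks Cfsg.Agent.Blocks.Basic

universe u

variable {G : Type u} [Group G] [Finite G] {M : Ideal AlgInt}

/-- `k(B₀) = 6` implies that eight divides the group order (`p = 2`). -/
theorem eight_le (hM : IsPModular 2 M) (hk : Nat.card (principalBlock M G) = 6) (P : Sylow 2 G) :
    ∃ n, 3 ≤ n ∧ Nat.card (P : Subgroup G) = 2 ^ n := by
  have := Fintype.ofFinite G
  have := hM.2.1.isPrime
  have hBD : IsDefectGroup 2 M (principalBlock M G) (P : Subgroup G) := (S4652.result 2 M hM _).2 ⟨P, rfl⟩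
  have hB : IsPBlock M (principalBlock M G) := Blocks.PrincipalSection.isPBlock_principalBlock
  have h1 := S0908.result 2 M hM _ hB _ hBD
  refine ⟨_, ?_, h1⟩
  by_contra h
  have h2 := (S4698.result 2 M hM _ hB _ rfl).1 (by omega)
  rw [hk] at h2
  have h3 : 2 ^ blockDefect 2 (principalBlock M G) ≤ 2 ^ 2 := Nat.pow_le_pow_right (by norm_num) (by omega)
  omega

/-- the number of characters of odd degree is four -/
theorem k0_eq_four (hM : IsPModular 2 M) (hk : Nat.card (principalBlock M G) = 6) :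
    Nat.card {χ : IrrCharacter G // χ ∈ principalBlock M G ∧ ¬ 2 ∣ charDegree (χ : G → ℂ)} = 4 := by
  classical
  have := Characters.Core.finite_irr (G := G)
  obtain ⟨P⟩ : Nonempty (Sylow 2 G) := inferInstance
  obtain ⟨n, hn, hP⟩ := eight_le hM hk P
  have h4 : 4 ∣ Nat.card G := by
    refine dvd_trans ?_ (Subgroup.card_subgroup_dvd_card (P : Subgroup G))
    rw [hP, show (4 : ℕ) = 2 ^ 2 by norm_num]
    exact pow_dvd_pow 2 (by omega)
  have h5 := H703.Lat.four_dvd_card hM (H703.Lat.good_principal (G := G) hM) h4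
  have h6 : Nat.card {χ : IrrCharacter G // χ ∈ principalBlock M G ∧ ¬ 2 ∣ charDegree (χ : G → ℂ)} =
      (H703.Lat.S 2 (H703.Lat.B0 M G)).card := by
    rw [← Nat.card_eq_finsetCard]
    refine Nat.card_congr (Equiv.subtypeEquivRight fun χ => ?_)
    rw [H703.Lat.mem_S, H703.Lat.mem_B0]
  rw [← h6] at h5
  have h7 : Nat.card {χ : IrrCharacter G // χ ∈ principalBlock M G ∧ ¬ 2 ∣ charDegree (χ : G → ℂ)} ≤ 6 := by
    rw [← hk]
    exact Nat.card_le_card_of_injective
      (fun χ : {χ : IrrCharacter G // χ ∈ principalBlock M G ∧ ¬ 2 ∣ charDegree (χ : G → ℂ)} =>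
        (⟨χ.1, χ.2.1⟩ : principalBlock M G)) (fun a b h => Subtype.ext (by
        have := congrArg (fun t : principalBlock M G => (t : IrrCharacter G)) h
        exact this))
  have h8 : 0 < Nat.card {χ : IrrCharacter G // χ ∈ principalBlock M G ∧ ¬ 2 ∣ charDegree (χ : G → ℂ)} :=
    H774.K0.k0_pos hM
  omega

theorem blockRank_eq_one (hM : IsPModular 2 M) (h : HasNormalPComplement 2 G) :
    blockRank 2 (principalBlock M G) = 1 := by
  have := Fintype.ofFinite G
  exact (S4646.result 2 M hM).1 ((S4691.result 2 M hM).1 h)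

/-- a quaternion Sylow subgroup of order 8: `k(B₀) ≠ 6` -/
theorem q8 (hM : IsPModular 2 M) (P : Sylow 2 G) (e : (P : Subgroup G) ≃* QuaternionGroup 2)
    (hk : Nat.card (principalBlock M G) = 6) : False := by
  have := Fintype.ofFinite G
  have := hM.2.1.isPrime
  have hBD : IsDefectGroup 2 M (principalBlock M G) (P : Subgroup G) := (S4652.result 2 M hM _).2 ⟨P, rfl⟩
  have hB : IsPBlock M (principalBlock M G) := Blocks.PrincipalSection.isPBlock_principalBlock
  obtain ⟨h1, h2, h3, -⟩ := S4530.result M hM _ hB _ hBD 3 le_rfl ⟨by simpa using e⟩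
  have hl : blockRank 2 (principalBlock M G) = 2 := by
    rw [hk] at h3
    norm_num at h3
    omega
  set K := pPrimeCore 2 G with hKdef
  have hKn : K.Normal := Lib.Cores.pPrimeCore_normal 2
  have hKc : (Nat.card K).Coprime 2 := Lib.Cores.pPrimeCore_coprime 2
  have hle := H684.BlockTools.card_le_of_surjective hM (QuotientGroup.mk' K) (QuotientGroup.mk'_surjective _)
  rw [hk] at hle
  -- the Sylow subgroup of the quotient
  have hinj : Function.Injective ((QuotientGroup.mk' K).subgroupMap (P : Subgroup G)) := by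
    rw [← MonoidHom.ker_eq_bot_iff, Subgroup.eq_bot_iff_forall]
    rintro ⟨x, hx⟩ hx1
    have h4 : x ∈ K := by
      rw [MonoidHom.mem_ker] at hx1
      have h5 := congrArg Subtype.val hx1
      exact (QuotientGroup.eq_one_iff x).1 h5
    have h6 : x ∈ (P : Subgroup G) ⊓ K := ⟨hx, h4⟩
    have h7 : (P : Subgroup G) ⊓ K = ⊥ := by
      refine disjoint_iff.1 (Subgroup.disjoint_of_coprime_natCard ?_)
      obtain ⟨n, hn⟩ := P.isPGroup'.exists_card_eq
      rw [hn]
      exact (Nat.Coprime.pow_right n hKc).symm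
    rw [h7, Subgroup.mem_bot] at h6
    exact Subtype.ext h6
  let Q : Sylow 2 (G ⧸ K) := P.mapSurjective (QuotientGroup.mk'_surjective K)
  have hQ : (Q : Subgroup (G ⧸ K)) = (P : Subgroup G).map (QuotientGroup.mk' K) := Sylow.coe_mapSurjective _ _
  let e1 : (P : Subgroup G) ≃* (P : Subgroup G).map (QuotientGroup.mk' K) :=
    MulEquiv.ofBijective ((QuotientGroup.mk' K).subgroupMap (P : Subgroup G))
      ⟨hinj, (QuotientGroup.mk' K).subgroupMap_surjective _⟩
  let e2 : (Q : Subgroup (G ⧸ K)) ≃* QuaternionGroup 2 := ((MulEquiv.subgroupCongr hQ).trans e1.symm).trans e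
  by_cases hQt : (Q : Subgroup (G ⧸ K)) = ⊤
  · have h8 : IsPGroup 2 (G ⧸ K) := by
      have h9 := Q.isPGroup'
      rw [hQt] at h9
      exact h9.of_equiv Subgroup.topEquiv
    have h10 := blockRank_eq_one hM (Transfer.PNilpotentBasic.hnc_of_quotient K hKc
      (Transfer.PNilpotentBasic.hnc_of_isPGroup h8))
    omega
  · have h11 := S0951.result M hM Q e2 (fun N hN hodd => by
      have h12 : N ≤ pPrimeCore 2 (G ⧸ K) := Lib.Cores.le_pPrimeCore hN hodd.coprime_two_right
      rw [Lib.Cores.pPrimeCore_quotient_pPrimeCore] at h12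
      exact le_bot_iff.1 h12) hQt
    omega

/-- **S4876, `p = 2`**, from the case `p = 2` of S4925. -/
theorem two_ne_six (hM : IsPModular 2 M) (P : Sylow 2 G)
    (h4 : Nat.card {χ : IrrCharacter G // χ ∈ principalBlock M G ∧ ¬ 2 ∣ charDegree (χ : G → ℂ)} = 4 →
      (commutator (P : Subgroup G)).index = 4) :
    Nat.card (principalBlock M G) ≠ 6 := by
  classical
  intro hk
  have := Fintype.ofFinite G
  have := hM.2.1.isPrime
  obtain ⟨n, hn, hP⟩ := eight_le hM hk P
  have hab := h4 (k0_eq_four hM hk)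
  have hP2 : IsPGroup 2 (P : Subgroup G) := P.isPGroup'
  have hBD : IsDefectGroup 2 M (principalBlock M G) (P : Subgroup G) := (S4652.result 2 M hM _).2 ⟨P, rfl⟩
  have hB : IsPBlock M (principalBlock M G) := Blocks.PrincipalSection.isPBlock_principalBlock
  have hcA : Nat.card (Abelianization (P : Subgroup G)) = 4 := hab
  have hexp : ∀ x : Abelianization (P : Subgroup G), x ^ 2 = 1 := by
    intro x
    by_contra hx
    have hx4 : orderOf x = 4 := by
      have h1 : orderOf x ∣ 2 ^ 2 := by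
        have := orderOf_dvd_natCard x
        rwa [hcA] at this
      obtain ⟨j, hj, hj'⟩ := (Nat.dvd_prime_pow Nat.prime_two).1 h1
      interval_cases j
      · rw [pow_zero, orderOf_eq_one_iff] at hj'
        rw [hj', one_pow] at hx
        exact absurd rfl hx
      · rw [pow_one] at hj'
        exact absurd (orderOf_dvd_iff_pow_eq_one.1 (dvd_of_eq hj')) hx
      · simpa using hj'
    have hcyc : IsCyclic ((P : Subgroup G) ⧸ commutator (P : Subgroup G)) :=
      isCyclic_of_orderOf_eq_card (α := Abelianization (P : Subgroup G)) x (by rw [hx4, hcA])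
    have hnil : Group.IsNilpotent (P : Subgroup G) := hP2.isNilpotent
    have h5 := Transfer.TausskyTwoGroup.commutator_eq_bot_of_isCyclic_quotient (X := (P : Subgroup G)) hcyc
    rw [h5, Subgroup.index_bot, hP] at hab
    have h6 : 2 ^ 3 ≤ 2 ^ n := Nat.pow_le_pow_right (by norm_num) hn
    omega
  rcases S4399.result hP2 hcA hexp with h | ⟨k, ⟨e⟩⟩ | ⟨k, hc, a, b, ha, hb, hab'⟩ | ⟨k, ⟨e⟩⟩
  · rw [hP] at h
    have h6 : 2 ^ 3 ≤ 2 ^ n := Nat.pow_le_pow_right (by norm_num) hn
    omega
  · -- dihedral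
    have ho : orderOf (e.symm (DihedralGroup.r 1)) = 2 ^ (k + 2) := by
      rw [MulEquiv.orderOf_eq, DihedralGroup.orderOf_r_one]
    have h1 := (S4481.result M hM (k + 3) (by omega) P ⟨by simpa using e⟩ ((e.symm (DihedralGroup.r 1) : (P : Subgroup G)) : G)
      (e.symm (DihedralGroup.r 1)).2 (by rw [Subgroup.orderOf_coe, ho]; rfl) _
      (Complex.isPrimitiveRoot_exp (2 ^ (k + 3 - 1)) (by positivity))).1
    rw [hk, show k + 3 - 2 = k + 1 by omega, pow_succ] at h1
    omega
  · -- quasi-dihedral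
    have h1 := (S4529.result M hM _ hB _ hBD (k + 4) (by omega) hc ⟨k + 3, by omega, hc, a, b, ha, hb, hab'⟩).1
    rw [hk, show k + 4 - 2 = k + 2 by omega, pow_add] at h1
    have : 1 ≤ 2 ^ k := Nat.one_le_two_pow
    omega
  · -- quaternion
    rcases Nat.eq_zero_or_pos k with rfl | hk0
    · exact q8 hM P (by simpa using e) hk
    · obtain ⟨h1, h2, h3, -⟩ := S4530.result M hM _ hB _ hBD (k + 3) (by omega)
        (by rw [show k + 3 - 2 = k + 1 by omega]; exact ⟨e⟩)
      rw [hk, show k + 3 - 2 = k + 1 by omega] at h3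
      have : 2 ^ 2 ≤ 2 ^ (k + 1) := Nat.pow_le_pow_right (by norm_num) (by omega)
      omega

end Cfsg.Agent.H693.K6.Two
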