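import Cfsg.Agent.H693.K6.Final
import Cfsg.Agent.H693.K6.Two
import Cfsg.Agent.H693.K6.Lie
import Cfsg.Agent.H693.K6.SporA
import Cfsg.Agent.H693.K6.NineTab
import Cfsg.Agent.OrdDiv.Table
import Cfsg.Agent.S4822
import Cfsg.Agent.S0000

/-!
# S4876 (`k(B₀) = 6`): everything except S4925 (helper693)
-/

set_option autoImplicit false

open Cfsg Subgroup

namespace Cfsg.Agent.H693.K6

open Cfsg.Agent.H61.K6 Cfsg.Agent.H436 Cfsg.Agent.OrdDiv

universe u

/-- the statement of S4925 -/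
def KFour : Prop :=
  ∀ (G : Type u) [Group G] [Finite G] (p : ℕ) [Fact p.Prime] (M : Ideal AlgInt), IsPModular p M → ∀ P : Sylow p G,
    (Nat.card {χ : IrrCharacter G // χ ∈ principalBlock M G ∧ ¬ p ∣ charDegree (χ : G → ℂ)} = 4 ↔
      ((commutator ↥P).index = 4 ∨ (Nat.card P = 5 ∧ (Subgroup.centralizer ((P : Subgroup G) : Set G)).relIndex
        (Subgroup.normalizer ((P : Subgroup G) : Set G)) = 2)))

theorem two_of (h25 : KFour.{u}) (G : Type u) [Group G] [Finite G] (M : Ideal AlgInt) (hM : IsPModular 2 M) :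
    Nat.card (principalBlock M G) ≠ 6 := by
  obtain ⟨P⟩ : Nonempty (Sylow 2 G) := inferInstance
  refine Two.two_ne_six hM P fun h => ?_
  rcases (h25 G 2 M hM P).1 h with h1 | ⟨h1, -⟩
  · exact h1
  · exfalso
    obtain ⟨n, hn⟩ := IsPGroup.iff_card.1 P.isPGroup'
    have h2 : (2 : ℕ) ^ n = 5 := hn.symm.trans h1
    rcases n with _ | n
    · norm_num at h2
    · rw [pow_succ] at h2
      omega

theorem main (h25 : KFour.{u})
    {G : Type u} [Group G] [Finite G] (p : ℕ) [hp : Fact p.Prime] (M : Ideal Cfsg.AlgInt) (hM : Cfsg.IsPModular p M)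
    (P : Sylow p G) :
    Nat.card (Cfsg.principalBlock M G) = 6 ↔ ((IsCyclic (P : Subgroup G) ∧ Nat.card (P : Subgroup G) = 9 ∧ (Subgroup.centralizer ((P : Subgroup G) : Set G)).relIndex (Subgroup.normalizer ((P : Subgroup G) : Set G)) = 2) ∨ (¬ IsCyclic (P : Subgroup G) ∧ Nat.card (P : Subgroup G) = 9 ∧ (((Subgroup.centralizer ((P : Subgroup G) : Set G)).relIndex (Subgroup.normalizer ((P : Subgroup G) : Set G)) = 4 ∧ (∃ g ∈ (Subgroup.normalizer ((P : Subgroup G) : Set G)), ∀ h ∈ (Subgroup.normalizer ((P : Subgroup G) : Set G)), ∃ i : ℕ, ∃ c ∈ (Subgroup.centralizer ((P : Subgroup G) : Set G)), h = g ^ i * c)) ∨ ((Subgroup.centralizer ((P : Subgroup G) : Set G)).relIndex (Subgroup.normalizer ((P : Subgroup G) : Set G)) = 8 ∧ ¬ (∃ g ∈ (Subgroup.normalizer ((P : Subgroup G) : Set G)), ∀ h ∈ (Subgroup.normalizer ((P : Subgroup G) : Set G)), ∃ i : ℕ, ∃ c ∈ (Subgroup.centralizer ((P : Subgroup G) : Set G)), h = g ^ i * c) ∧ (∀ g ∈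 (Subgroup.normalizer ((P : Subgroup G) : Set G)), g * g ∈ (Subgroup.centralizer ((P : Subgroup G) : Set G)) → g ∈ (Subgroup.centralizer ((P : Subgroup G) : Set G)) ∨ ∀ x ∈ (P : Subgroup G), g * x * g⁻¹ = x⁻¹)) ∨ ((Subgroup.centralizer ((P : Subgroup G) : Set G)).relIndex (Subgroup.normalizer ((P : Subgroup G) : Set G)) = 2 ∧ (∀ g ∈ (Subgroup.normalizer ((P : Subgroup G) : Set G)), g ∉ (Subgroup.centralizer ((P : Subgroup G) : Set G)) → ∀ x ∈ (P : Subgroup G), x ≠ 1 → g * x * g⁻¹ ≠ x))))) := by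
  have hS : ∀ (S : Type u) [Group S] [Finite S], IsSimpleGroup S → IsKnownSimple' S :=
    fun S _ _ h => S0000.result
  exact final (fun G _ _ p _ hpG M hM => S4822.result p hpG M hM) (two_of h25) hS table
    (fun p hp hp3 => cross_of hp3 (lieRows hp3) spor3 spor5 spor7) (t9d hS table) p M hM P

end Cfsg.Agent.H693.K6
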