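import Cfsg.Agent.H693.Sch.Value
import Cfsg.Agent.H582.Sph.Lemma
import Cfsg.Agent.H80.K6.Crit

/-!
# S4876: rows by one spherical function (helper693)

`krow_of_sph` : `X` acts on a finite set with a symmetric colouring whose colour classes are the orbits on pairs
(`H816.IMEig.Col`); `ω` is a spherical function belonging to a constituent of degree `f`, `p ∣ f`, and
`k_u ω(u) ≡ k_u` modulo `p` for all colours.  Then the constituent is in the principal `p`-block (helper582) and has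
positive height, so `KRow p X` (helper80, criterion H).
-/

set_option autoImplicit false

open Cfsg Cfsg.Agent.H816.IMEig Cfsg.Agent.H816.IMEig.Col Cfsg.Agent.Blocks.Fong
open scoped BigOperators

namespace Cfsg.Agent.H693.K6

open Cfsg.Agent.H61.K6

universe u v w

section

variable {G : Type v} [Group G] {X : Type w} [MulAction G X] {ι : Type} [Fintype ι] [DecidableEq ι]
variable {c : X → X → ι} {o : ι}

/-- **A constituent in the principal block.** -/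
theorem exists_mem_of_sph [Finite G] [Finite X] (h : Col G X ι c o) {x₀ z₀ : X} {t : ι → ι → ℕ} {θ : ℂ} {ω : ι → ℂ}
    (ht : ∀ u w, Nat.card {y // c x₀ y = u ∧ c z₀ y = w} = t u w) (hE : Eig (c x₀ z₀) o t θ ω) {f : ℕ} (hf0 : f ≠ 0)
    (hf : (f : ℂ) * ∑ u, ((∑ w, t u w : ℕ) : ℂ) * ω u ^ 2 = (Nat.card X : ℂ)) {p : ℕ} (m : ι → ℤ)
    (hm : ∀ u, ((∑ w, t u w : ℕ) : ℂ) * ω u - ((∑ w, t u w : ℕ) : ℂ) = (p : ℂ) * (m u : ℂ)) {M : Ideal AlgInt}
    (hM : IsPModular p M) : ∃ χ ∈ principalBlock M G, charDegree (χ : G → ℂ) = f := by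
  classical
  have := Fintype.ofFinite X
  have : Nonempty X := ⟨x₀⟩
  have hp := hM.2.1.isPrime
  obtain ⟨χ, h1, h2, h3⟩ := Cfsg.Agent.H693.Sch.exists_values h ht hE hf
  have hX : (Nat.card X : ℂ) ≠ 0 := by exact_mod_cast (Nat.card_pos (α := X)).ne'
  refine ⟨⟨χ, h1⟩, H582.Sph.mem_principal_of_sph hM h ⟨χ, h1⟩ (a := (f : ℂ) / (Nat.card X : ℂ)) (ω := ω) ?_ hE.one
    h3 ?_, ?_⟩
  · exact div_ne_zero (by exact_mod_cast hf0) hX
  · intro x u
    have hk : (kk c x u : ℂ) = ((∑ w, t u w : ℕ) : ℂ) := by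
      rw [h.kk_eq x x₀, kk_eq_sum x₀ z₀ u]
      congr 1
      exact Finset.sum_congr rfl fun w _ => ht u w
    rw [hk, hm u]
    refine lideal_mul_right hp (H582.Sph.lideal_prime hM) ?_
    simpa using lring_coe hp (m u : AlgInt)
  · have h4 := Blocks.Basic.irr_one_eq_charDegree h1
    rw [h2] at h4
    exact_mod_cast h4.symm

/-- **A row by one spherical function.** -/
theorem krow_of_sph [Finite G] [Finite X] (h : Col G X ι c o) {x₀ z₀ : X} {t : ι → ι → ℕ} {θ : ℂ} {ω : ι → ℂ}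
    (ht : ∀ u w, Nat.card {y // c x₀ y = u ∧ c z₀ y = w} = t u w) (hE : Eig (c x₀ z₀) o t θ ω) {f : ℕ} (hf0 : f ≠ 0)
    (hf : (f : ℂ) * ∑ u, ((∑ w, t u w : ℕ) : ℂ) * ω u ^ 2 = (Nat.card X : ℂ)) {p : ℕ} (hp2 : p ≠ 2)
    (hd : p ^ 2 ∣ Nat.card G) (hpf : p ∣ f) (m : ι → ℤ)
    (hm : ∀ u, ((∑ w, t u w : ℕ) : ℂ) * ω u - ((∑ w, t u w : ℕ) : ℂ) = (p : ℂ) * (m u : ℂ)) : KRow.{u, v} p G :=
  H80.K6.KRow.of_height hp2 hd fun M hM => by
    obtain ⟨χ, h1, h2⟩ := exists_mem_of_sph h ht hE hf0 hf m hm hM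
    exact ⟨χ, h1, by rw [h2]; exact hpf⟩

end

end Cfsg.Agent.H693.K6
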