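import Cfsg.Agent.H968.Imc.RankThreeRat
import Cfsg.Agent.H693.K6.SphTool

/-!
# S4876: rows by a rank three action (helper693)

`krow_of_r3` : `G` acts on `X` with rank three, subdegrees `1, k, l` (`R3 G X R k l` of helper690), `p² ∣ |G|`; for all
possible parameters one of the two nontrivial constituents (eigenvalue `r`, degree `f`) satisfies
`p ∣ f`, `r ≡ k`, `-1 - r ≡ l` modulo `p` (check `chkK k l p = true` by `decide +kernel`).  Then `KRow p G`.
-/

set_option autoImplicit false
set_option linter.unusedSectionVars false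

open Cfsg Cfsg.Agent.H816.IMEig Cfsg.Agent.H816.IMEig.Col Cfsg.Agent.Blocks.Fong
open Cfsg.Agent.Characters.Core Cfsg.Agent.H690.Spor.RankThree Cfsg.Agent.H690.Spor.RankThree.R3 Cfsg.Agent.H968.Imc
open scoped BigOperators

namespace Cfsg.Agent.H693.K6

open Cfsg.Agent.H61.K6

universe u v w

section

variable {G : Type v} [Group G] {X : Type w} [MulAction G X] {R : X → X → Prop} {k l : ℕ}

section col

variable [DecidableEq X] [DecidableRel R]

/-- the colouring -/
def col (R : X → X → Prop) [DecidableRel R] (x y : X) : Fin 3 := if x = y then 0 else if R x y then 1 else 2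

theorem col_zero {x y : X} : col R x y = 0 ↔ x = y := by
  unfold col
  split_ifs with h1 h2
  · exact ⟨fun _ => h1, fun _ => rfl⟩
  · exact ⟨fun h => absurd h (by decide), fun h => absurd h h1⟩
  · exact ⟨fun h => absurd h (by decide), fun h => absurd h h1⟩

theorem col_one (h : R3 G X R k l) {x y : X} : col R x y = 1 ↔ R x y := by
  unfold col
  split_ifs with h1 h2
  · exact ⟨fun h => absurd h (by decide), fun h3 => absurd (h1 ▸ h3) (h.irr x)⟩
  · exact ⟨fun _ => h2, fun _ => rfl⟩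
  · exact ⟨fun h => absurd h (by decide), fun h3 => absurd h3 h2⟩

theorem col_two (h : R3 G X R k l) {x y : X} : col R x y = 2 ↔ x ≠ y ∧ ¬ R x y := by
  unfold col
  split_ifs with h1 h2
  · exact ⟨fun h => absurd h (by decide), fun h3 => absurd h1 h3.1⟩
  · exact ⟨fun h => absurd h (by decide), fun h3 => absurd h2 h3.2⟩
  · exact ⟨fun _ => ⟨h1, h2⟩, fun _ => rfl⟩

theorem isCol_r3 (h : R3 G X R k l) : Col G X (Fin 3) (col R) 0 where
  inv g x y := by
    unfold col
    simp only [smul_left_cancel_iff, h.inv_iff]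
  tr x y x' y' he := by
    have h3 : ∀ u : Fin 3, u = 0 ∨ u = 1 ∨ u = 2 := by decide
    rcases h3 (col R x y) with h4 | h4 | h4
    · have h5 := he.symm.trans h4
      rw [col_zero] at h4 h5
      subst h4 h5
      obtain ⟨g, hg⟩ := h.trans.exists_smul_eq x x'
      exact ⟨g, hg, hg⟩
    · have h5 := he.symm.trans h4
      rw [col_one h] at h4 h5
      exact h.one _ _ _ _ h4 h5
    · have h5 := he.symm.trans h4
      rw [col_two h] at h4 h5
      exact h.two _ _ _ _ h4.1 h4.2 h5.1 h5.2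
  diag x y := col_zero
  symm x y := by
    unfold col
    by_cases h1 : x = y
    · rw [if_pos h1, if_pos h1.symm]
    · rw [if_neg h1, if_neg (Ne.symm h1)]
      by_cases h2 : R x y
      · rw [if_pos h2, if_pos (h.symm _ _ h2)]
      · rw [if_neg h2, if_neg (fun h3 => h2 (h.symm _ _ h3))]

theorem kk_zero (x : X) : kk (col R) x 0 = 1 := by
  unfold kk
  rw [Nat.card_eq_one_iff_unique]
  refine ⟨⟨fun a b => Subtype.ext ((col_zero.1 a.2).symm.trans (col_zero.1 b.2))⟩, ⟨x, col_zero.2 rfl⟩⟩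

theorem kk_one (h : R3 G X R k l) (x : X) : kk (col R) x 1 = k := by
  unfold kk
  rw [← h.cardk x]
  exact Nat.card_congr (Equiv.subtypeEquivRight fun y => col_one h)

theorem kk_two [Finite X] (h : R3 G X R k l) (x : X) : kk (col R) x 2 = l := by
  have h1 : ∑ u : Fin 3, kk (col R) x u = Nat.card X := by
    unfold kk
    rw [← Nat.card_sigma]
    exact Nat.card_congr ⟨fun y => y.2.1, fun y => ⟨col R x y, y, rfl⟩, fun ⟨u, y, hy⟩ => by subst hy; rfl, fun _ => rfl⟩
  rw [Fin.sum_univ_three, kk_zero, kk_one h, h.cardn] at h1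
  omega

end col

/-- **A constituent of a rank three permutation character in the principal block.** -/
theorem exists_mem_r3 [Finite G] (h : R3 G X R k l) [Fintype X] [DecidableEq X] [DecidableRel R] {a b : ℕ}
    (hab : ∀ x y, ∑ z, adj R x z * adj R z y =
      (k - b : ℂ) * dia x y + (a - b : ℂ) * adj R x y + b) {r s : ℤ} (hrs : r ≠ s) (h1 : r + s = a - b)
    (h2 : r * s = b - k) {f : ℕ} (hf : (f : ℤ) * (r - s) = -(s * (k + l) + k)) {p : ℕ}
    (hp1 : (p : ℤ) ∣ r - k) (hp2 : (p : ℤ) ∣ 1 + r + l) {M : Ideal AlgInt} (hM : IsPModular p M) :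
    ∃ χ ∈ principalBlock M G, charDegree (χ : G → ℂ) = f := by
  classical
  have hp := hM.2.1.isPrime
  obtain ⟨χ, f', h3, h4, h5⟩ := exists_irr h hab hrs h1 h2
  have hrs0 : r - s ≠ 0 := sub_ne_zero.2 hrs
  have hff : f' = f := by
    have h6 : (f' : ℤ) * (r - s) = f * (r - s) := by rw [h5, hf]
    exact_mod_cast mul_right_cancel₀ hrs0 h6
  subst hff
  have hdeg : charDegree (χ : G → ℂ) = f' := Blocks.Basic.charDegree_of_eq h4
  have hf0 : f' ≠ 0 := by
    intro h0
    have h6 := Blocks.Basic.irr_one_ne_zero χ.2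
    rw [h4, h0] at h6
    exact h6 (by simp)
  have hn := h.cardn
  have hpar := h.params_eq hab
  have hnC : (Nat.card X : ℂ) = 1 + k + l := by exact_mod_cast hn
  have hn0 : (Nat.card X : ℂ) ≠ 0 := by
    have : Nat.card X ≠ 0 := by omega
    exact_mod_cast this
  have hne : Nonempty X := by
    rw [← Finite.card_pos_iff]
    omega
  have hk0 : (k : ℂ) ≠ 0 := by exact_mod_cast h.k0.ne'
  have hl0 : (l : ℂ) ≠ 0 := by exact_mod_cast h.l0.ne'
  have hrsC : (r : ℂ) - s ≠ 0 := by exact_mod_cast hrs0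
  have h1C : (r : ℂ) + s = a - b := by exact_mod_cast h1
  have h2C : (r : ℂ) * s = b - k := by exact_mod_cast h2
  have hpC : (k : ℂ) * k = k + k * a + l * b := by exact_mod_cast hpar
  have hfC : (f' : ℂ) * (r - s) = -(s * (k + l) + k) := by exact_mod_cast hf
  -- the value of the kernel
  set A : ℂ := (f' : ℂ) / (Nat.card X : ℂ) with hA
  have hA0 : A ≠ 0 := div_ne_zero (by exact_mod_cast hf0) hn0
  have hAn : A * Nat.card X = f' := by rw [hA]; field_simp
  set om : Fin 3 → ℂ := ![1, (r : ℂ) / k, -(1 + r) / l] with hom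
  have o0 : om 0 = 1 := rfl
  have o1 : om 1 = (r : ℂ) / k := rfl
  have o2 : om 2 = -(1 + (r : ℂ)) / l := rfl
  have hker : ∀ x y, ker R k (Nat.card X) (r : ℂ) (s : ℂ) x y = A * om (col R x y) := by
    intro x y
    have hmul : ∀ z w : ℂ, z * (Nat.card X * (r - s)) = w * (Nat.card X * (r - s)) → z = w := fun z w hzw =>
      mul_right_cancel₀ (mul_ne_zero hn0 hrsC) hzw
    apply hmul
    have e1 : A * om (col R x y) * (Nat.card X * (r - s)) = -(s * (k + l) + k) * om (col R x y) := by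
      rw [← hfC, ← hAn]
      ring
    have e2 : ker R k (Nat.card X) (r : ℂ) (s : ℂ) x y * (Nat.card X * (r - s)) =
        (adj R x y - s * dia x y) * Nat.card X - (k - s) := by
      unfold ker
      field_simp
    rw [e1, e2, hnC]
    by_cases hxy : x = y
    · subst hxy
      have e3 : col R x x = 0 := col_zero.2 rfl
      have e4 : adj R x x = 0 := by unfold adj; rw [if_neg (h.irr x)]
      have e5 : dia x x = 1 := by unfold dia; rw [if_pos rfl]
      rw [e3, e4, e5, o0]
      ring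
    · have e5 : dia x y = 0 := by unfold dia; rw [if_neg hxy]
      by_cases hR : R x y
      · have e3 : col R x y = 1 := (col_one h).2 hR
        have e4 : adj R x y = 1 := by unfold adj; rw [if_pos hR]
        rw [e3, e4, e5, o1]
        rw [← mul_right_inj' hk0]
        have e6 : (k : ℂ) * (-(s * (k + l) + k) * ((r : ℂ) / k)) = -(s * (k + l) + k) * r := by field_simp
        rw [e6]
        linear_combination ((k : ℂ) + l) * h2C + (k : ℂ) * h1C - hpC
      · have e3 : col R x y = 2 := (col_two h).2 ⟨hxy, hR⟩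
        have e4 : adj R x y = 0 := by unfold adj; rw [if_neg hR]
        rw [e3, e4, e5, o2]
        rw [← mul_right_inj' hl0]
        have e6 : (l : ℂ) * (-(s * (k + l) + k) * (-(1 + (r : ℂ)) / l)) = (s * (k + l) + k) * (1 + r) := by
          field_simp
        rw [e6]
        linear_combination (-((k : ℂ) + l)) * h2C - (k : ℂ) * h1C + hpC
  refine ⟨χ, H582.Sph.mem_principal_of_sph hM (isCol_r3 h) χ (a := A) (ω := om) hA0 rfl ?_ ?_, hdeg⟩
  · intro g
    rw [h3 g, Finset.mul_sum]
    exact Finset.sum_congr rfl fun x _ => hker x (g • x)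
  · intro x u
    obtain ⟨m1, hm1⟩ := hp1
    obtain ⟨m2, hm2⟩ := hp2
    have hint : ∀ m : ℤ, MemLocalIdeal M ((p : ℂ) * (m : ℂ)) := fun m => by
      refine lideal_mul_right hp (H582.Sph.lideal_prime hM) ?_
      simpa using lring_coe hp (m : AlgInt)
    have h3 : u = 0 ∨ u = 1 ∨ u = 2 := by revert u; decide
    rcases h3 with rfl | rfl | rfl
    · rw [kk_zero]
      have : ((1 : ℕ) : ℂ) * om 0 - ((1 : ℕ) : ℂ) = (p : ℂ) * ((0 : ℤ) : ℂ) := by
        show ((1 : ℕ) : ℂ) * 1 - ((1 : ℕ) : ℂ) = _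
        push_cast
        ring
      rw [this]
      exact hint 0
    · rw [kk_one h]
      have : (k : ℂ) * om 1 - k = (p : ℂ) * (m1 : ℂ) := by
        show (k : ℂ) * ((r : ℂ) / k) - k = _
        have h7 : (r : ℂ) - k = p * m1 := by exact_mod_cast hm1
        rw [← h7]
        field_simp
      rw [this]
      exact hint m1
    · rw [kk_two h]
      have : (l : ℂ) * om 2 - l = (p : ℂ) * ((-m2 : ℤ) : ℂ) := by
        show (l : ℂ) * (-(1 + (r : ℂ)) / l) - l = _
        have h7 : 1 + (r : ℂ) + l = p * m2 := by exact_mod_cast hm2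
        push_cast
        have h8 : (l : ℂ) * (-(1 + (r : ℂ)) / l) = -(1 + (r : ℂ)) := by field_simp
        rw [h8]
        linear_combination -h7
      rw [this]
      exact hint (-m2)

/-- the check for one pair of parameters, `d` is the integer square root of the discriminant `D` -/
def chkKOne (k l : ℕ) (Q : ℕ → ℕ → ℕ → ℕ → Bool) (a b D d : ℕ) : Bool :=
  if d * d = D then
    decide ((d + a - b) / 2 + b = (d + b - a) / 2 + a) && decide ((d + a - b) / 2 * ((d + b - a) / 2) + b = k) &&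
    decide (d ≠ 0) && decide ((d + a - b) / 2 + (d + b - a) / 2 = d) &&
    decide (k ≤ (d + b - a) / 2 * (k + l)) &&
    (decide (((d + b - a) / 2 * (k + l) - k) % d ≠ 0) ||
      decide (((d + a - b) / 2 * (k + l) + k) % d ≠ 0) ||
      Q ((d + a - b) / 2) ((d + b - a) / 2) (((d + b - a) / 2 * (k + l) - k) / d)
        (((d + a - b) / 2 * (k + l) + k) / d))
  else decide (d * d < D) && decide (D < (d + 1) * (d + 1)) && decide (a * (k + l) + 2 * k ≠ b * (k + l))

/-- the check -/
def chkK (k l : ℕ) (Q : ℕ → ℕ → ℕ → ℕ → Bool) : Bool :=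
  decide (0 < k / Nat.gcd k l) &&
  (List.range (min k (k * k / l) / (k / Nat.gcd k l) + 1)).all fun t =>
    decide ((k * k - k - l * (t * (k / Nat.gcd k l))) % k ≠ 0) ||
    decide (k * k < k + l * (t * (k / Nat.gcd k l))) ||
    chkKOne k l Q ((k * k - k - l * (t * (k / Nat.gcd k l))) / k) (t * (k / Nat.gcd k l))
      (((k * k - k - l * (t * (k / Nat.gcd k l))) / k - t * (k / Nat.gcd k l) +
        (t * (k / Nat.gcd k l) - (k * k - k - l * (t * (k / Nat.gcd k l))) / k)) ^ 2 + 4 * (k - t * (k / Nat.gcd k l)))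
      (isq 24 (((k * k - k - l * (t * (k / Nat.gcd k l))) / k - t * (k / Nat.gcd k l) +
        (t * (k / Nat.gcd k l) - (k * k - k - l * (t * (k / Nat.gcd k l))) / k)) ^ 2 +
          4 * (k - t * (k / Nat.gcd k l))) 0)

theorem exists_params_int [Finite G] (h : R3 G X R k l) [Fintype X] [DecidableEq X] [DecidableRel R]
    (Q : ℕ → ℕ → ℕ → ℕ → Bool) (hc : chkK k l Q = true) :
    ∃ a b r s f g : ℕ, (∀ x y, ∑ z, adj R x z * adj R z y =
      (k - b : ℂ) * dia x y + (a - b : ℂ) * adj R x y + b) ∧ (r : ℤ) ≠ -(s : ℤ) ∧ (r : ℤ) + -(s : ℤ) = a - b ∧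
      (r : ℤ) * -(s : ℤ) = b - k ∧ (f : ℤ) * (r - -(s : ℤ)) = -(-(s : ℤ) * (k + l) + k) ∧
      (g : ℤ) * (-(s : ℤ) - r) = -(r * (k + l) + k) ∧ Q r s f g = true := by
  obtain ⟨a, b, hab⟩ := h.exists_params
  have hpar := h.params_eq hab
  have hb := b_le h hab
  have hk0 := h.k0
  have hl0 := h.l0
  unfold chkK at hc
  rw [Bool.and_eq_true, decide_eq_true_eq, List.all_eq_true] at hc
  obtain ⟨hst, hc⟩ := hc
  obtain ⟨st, hst'⟩ : ∃ st, st = k / Nat.gcd k l := ⟨_, rfl⟩
  rw [← hst'] at hc hst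
  have hdiv : st ∣ b := by
    have h1 : k ∣ l * b := by
      have h2 : k ∣ k * k := dvd_mul_right k k
      rw [hpar] at h2
      exact (Nat.dvd_add_right ((dvd_refl k).add (dvd_mul_right k a))).1 h2
    obtain ⟨g, hg⟩ : ∃ g, g = Nat.gcd k l := ⟨_, rfl⟩
    have hg0 : 0 < g := by rw [hg]; exact Nat.gcd_pos_of_pos_left l hk0
    have hcop : Nat.Coprime (k / g) (l / g) := by rw [hg]; exact Nat.coprime_div_gcd_div_gcd (by rw [← hg]; exact hg0)
    rw [hst', ← hg]
    have hkg : g * (k / g) = k := Nat.mul_div_cancel' (by rw [hg]; exact Nat.gcd_dvd_left k l)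
    have hlg : g * (l / g) = l := Nat.mul_div_cancel' (by rw [hg]; exact Nat.gcd_dvd_right k l)
    refine hcop.dvd_of_dvd_mul_left (Nat.dvd_of_mul_dvd_mul_left hg0 ?_)
    rw [hkg, ← mul_assoc, hlg]
    exact h1
  obtain ⟨t, ht⟩ := hdiv
  have hbl : b ≤ k * k / l := by
    rw [Nat.le_div_iff_mul_le hl0, mul_comm]
    omega
  have hmem : t ∈ List.range (min k (k * k / l) / st + 1) := by
    rw [List.mem_range]
    have h1 : b ≤ min k (k * k / l) := le_min hb hbl
    have h2 : t ≤ min k (k * k / l) / st := by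
      rw [Nat.le_div_iff_mul_le hst, mul_comm, ← ht]
      exact h1
    omega
  have h1 := hc t hmem
  have htb : t * st = b := by rw [mul_comm, ht]
  rw [htb] at h1
  have hw : k * k - k - l * b = k * a := by omega
  rw [hw, Nat.mul_mod_right, Nat.mul_div_cancel_left a hk0] at h1
  rw [Bool.or_eq_true, Bool.or_eq_true, decide_eq_true_eq, decide_eq_true_eq] at h1
  replace h1 := h1.resolve_left (by omega)
  obtain ⟨D, hD⟩ : ∃ D, D = (a - b + (b - a)) ^ 2 + 4 * (k - b) := ⟨_, rfl⟩
  rw [← hD] at h1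
  have hDZ : (D : ℤ) = ((a : ℤ) - b) ^ 2 + 4 * (k - b) := by
    rw [hD]
    push_cast [Nat.cast_sub hb]
    rcases le_total a b with h2 | h2
    · rw [Nat.sub_eq_zero_of_le h2, Nat.cast_sub h2]
      push_cast
      ring
    · rw [Nat.sub_eq_zero_of_le h2, Nat.cast_sub h2]
      push_cast
      ring
  generalize isq 24 D 0 = d at h1
  unfold chkKOne at h1
  have hsum : ((a : ℤ) - b) * (k + l) + 2 * k ≠ 0 → d * d = D := by
    intro h2
    by_contra h3
    rw [if_neg h3, Bool.and_eq_true, Bool.and_eq_true, decide_eq_true_eq, decide_eq_true_eq, decide_eq_true_eq] at h1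
    obtain ⟨⟨h4, h5⟩, -⟩ := h1
    obtain ⟨c, hc⟩ := sq_of_params h hab h2
    rw [← hDZ] at hc
    have hc' : c * c = D := by exact_mod_cast hc
    have h6 : d < c := by
      by_contra h7
      push Not at h7
      have := Nat.mul_le_mul h7 h7
      omega
    have h7 : c < d + 1 := by
      by_contra h7
      push Not at h7
      have := Nat.mul_le_mul h7 h7
      omega
    omega
  by_cases hdD : d * d = D
  swap
  · exfalso
    rw [if_neg hdD, Bool.and_eq_true, Bool.and_eq_true, decide_eq_true_eq, decide_eq_true_eq, decide_eq_true_eq] at h1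
    obtain ⟨-, h4⟩ := h1
    apply hdD (hsum ?_)
    intro h5
    apply h4
    zify
    linear_combination h5
  rw [if_pos hdD] at h1
  obtain ⟨r, hr⟩ : ∃ r, r = (d + a - b) / 2 := ⟨_, rfl⟩
  obtain ⟨s, hs⟩ : ∃ s, s = (d + b - a) / 2 := ⟨_, rfl⟩
  rw [← hr, ← hs] at h1
  simp only [Bool.and_eq_true, Bool.or_eq_true, decide_eq_true_eq] at h1
  obtain ⟨⟨⟨⟨⟨h2, h3⟩, h4⟩, h5⟩, h7⟩, h8⟩ := h1
  have hrs : (r : ℤ) ≠ -(s : ℤ) := by omega
  have e1 : (r : ℤ) + -(s : ℤ) = a - b := by omega
  have e2 : (r : ℤ) * -(s : ℤ) = b - k := by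
    have : (r : ℤ) * s + b = k := by exact_mod_cast h3
    linear_combination -this
  obtain ⟨χ₁, f, v1, z1, d1, hf⟩ := exists_irr_int h hab hrs e1 e2
  obtain ⟨χ₂, g, v2, z2, d2, hg⟩ := exists_irr_int h hab hrs.symm (by rw [add_comm]; exact e1)
    (by rw [mul_comm]; exact e2)
  have hfN : s * (k + l) - k = d * f := by
    have h9 : ((s * (k + l) : ℕ) : ℤ) = k + f * d := by
      rw [← h5]
      push_cast
      linear_combination -hf
    have h10 : s * (k + l) = k + f * d := by exact_mod_cast h9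
    rw [h10, Nat.add_sub_cancel_left, mul_comm]
  have hgN : r * (k + l) + k = d * g := by
    have h9 : ((r * (k + l) + k : ℕ) : ℤ) = d * g := by
      rw [← h5]
      push_cast
      linear_combination hg
    exact_mod_cast h9
  rw [hfN, hgN] at h8
  rw [Nat.mul_mod_right, Nat.mul_mod_right, Nat.mul_div_cancel_left _ (Nat.pos_of_ne_zero h4),
    Nat.mul_div_cancel_left _ (Nat.pos_of_ne_zero h4)] at h8
  rcases h8 with (h8 | h8) | h8
  · exact absurd rfl h8
  · exact absurd rfl h8
  · exact ⟨a, b, r, s, f, g, hab, hrs, e1, e2, hf, hg, h8⟩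

/-- the condition for the eigenvalues `r`, `-s` with the multiplicities `f`, `g` -/
def QK (p k l : ℕ) (r s f g : ℕ) : Bool :=
  (decide (p ∣ f) && decide ((p : ℤ) ∣ (r : ℤ) - k) && decide ((p : ℤ) ∣ 1 + (r : ℤ) + l)) ||
  (decide (p ∣ g) && decide ((p : ℤ) ∣ -(s : ℤ) - k) && decide ((p : ℤ) ∣ 1 + -(s : ℤ) + l))

/-- **A row by a rank three action.** -/
theorem krow_of_r3 [Finite G] (h : R3 G X R k l) {p : ℕ} (hp2 : p ≠ 2) (hd : p ^ 2 ∣ Nat.card G)
    (hc : chkK k l (QK p k l) = true) : KRow.{u, v} p G := by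
  classical
  have hn := h.cardn
  have hfin : Finite X := by
    by_contra hcon
    rw [not_finite_iff_infinite] at hcon
    rw [Nat.card_eq_zero_of_infinite] at hn
    omega
  have := Fintype.ofFinite X
  obtain ⟨a, b, r, s, f, g, hab, hrs, e1, e2, hf, hg, hQ⟩ := exists_params_int h _ hc
  unfold QK at hQ
  simp only [Bool.or_eq_true, Bool.and_eq_true, decide_eq_true_eq] at hQ
  refine H80.K6.KRow.of_height hp2 hd fun M hM => ?_
  rcases hQ with ⟨⟨h1, h2⟩, h3⟩ | ⟨⟨h1, h2⟩, h3⟩
  · obtain ⟨χ, h4, h5⟩ := exists_mem_r3 h hab hrs e1 e2 hf h2 h3 hM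
    exact ⟨χ, h4, by rw [h5]; exact h1⟩
  · obtain ⟨χ, h4, h5⟩ := exists_mem_r3 h hab hrs.symm (by rw [add_comm]; exact e1) (by rw [mul_comm]; exact e2) hg
      h2 h3 hM
    exact ⟨χ, h4, by rw [h5]; exact h1⟩

end

end Cfsg.Agent.H693.K6
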