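import Cfsg.Agent.H693.K6.Disp
import Cfsg.Agent.H795.K6.SzSpor

/-!
# S4876 (`k(B₀) = 6`): the remaining rows (helper693)

* `LieRows p` : the rows of the groups of Lie type in cross characteristic (without `Sz`, `Ree`);
* `Spor3`, `Spor5`, `Spor7` : the rows of the sporadic groups and the Tits group;
* `cross_of` : `Cross p`.
-/

set_option autoImplicit false

open Cfsg Subgroup

namespace Cfsg.Agent.H693.K6

open Cfsg.Agent.H61.K6 Cfsg.Agent.H436 Cfsg.Agent.OrdDiv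

universe u

/-- a sporadic row -/
def SRow (p : ℕ) (g : Grp) : Prop :=
  ∀ (S : Type u) [Group S] [Finite S] [IsSimpleGroup S], IsNamed g S → KRow.{u, u} p S

/-- the rows of the groups of Lie type in cross characteristic -/
structure LieRows (p : ℕ) : Prop where
  psl3 : ∀ q, ¬ p ∣ q → RowOf.{u} p (.psl 3 q)
  psl1 : ∀ n q, 4 ≤ n → ¬ p ∣ q → p ∣ q - 1 → RowOf.{u} p (.psl n q)
  psl2 : ∀ n q, 4 ≤ n → ¬ p ∣ q → p ∣ q + 1 → RowOf.{u} p (.psl n q)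
  psl_more : ∀ n q, ¬ p ∣ q → ¬ p ∣ q ^ 2 - 1 → RowOf.{u} p (.psl n q)
  psu3 : ∀ q, ¬ p ∣ q → RowOf.{u} p (.psu 3 q)
  psu1 : ∀ n q, 4 ≤ n → ¬ p ∣ q → p ∣ q + 1 → RowOf.{u} p (.psu n q)
  psu2 : ∀ n q, 4 ≤ n → ¬ p ∣ q → p ∣ q - 1 → RowOf.{u} p (.psu n q)
  psu_more : ∀ n q, ¬ p ∣ q → ¬ p ∣ q ^ 2 - 1 → RowOf.{u} p (.psu n q)
  psp_four : ∀ q, ¬ p ∣ q → RowOf.{u} p (.psp 2 q)
  psp_one : ∀ m q, 3 ≤ m → ¬ p ∣ q → p ∣ q ^ 2 - 1 → RowOf.{u} p (.psp m q)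
  psp_more : ∀ m q, 3 ≤ m → ¬ p ∣ q → ¬ p ∣ q ^ 2 - 1 → RowOf.{u} p (.psp m q)
  oodd_one : ∀ m q, ¬ p ∣ q → p ∣ q ^ 2 - 1 → RowOf.{u} p (.oodd m q)
  oodd_more : ∀ m q, ¬ p ∣ q → ¬ p ∣ q ^ 2 - 1 → RowOf.{u} p (.oodd m q)
  oplus_one : ∀ m q, 5 ≤ m → ¬ p ∣ q → p ∣ q ^ 2 - 1 → RowOf.{u} p (.oplus m q)
  oplus_more : ∀ m q, 5 ≤ m → ¬ p ∣ q → ¬ p ∣ q ^ 2 - 1 → RowOf.{u} p (.oplus m q)
  oplus_four : ∀ q, ¬ p ∣ q → RowOf.{u} p (.oplus 4 q)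
  ominus_one : ∀ m q, ¬ p ∣ q → p ∣ q ^ 2 - 1 → RowOf.{u} p (.ominus m q)
  ominus_more : ∀ m q, ¬ p ∣ q → ¬ p ∣ q ^ 2 - 1 → RowOf.{u} p (.ominus m q)
  g2 : ∀ q, ¬ p ∣ q → RowOf.{u} p (.g2 q)
  f4 : ∀ q, ¬ p ∣ q → RowOf.{u} p (.f4 q)
  e6 : ∀ q, ¬ p ∣ q → RowOf.{u} p (.e6 q)
  e7 : ∀ q, ¬ p ∣ q → RowOf.{u} p (.e7 q)
  e8 : ∀ q, ¬ p ∣ q → RowOf.{u} p (.e8 q)
  te6 : ∀ q, ¬ p ∣ q → RowOf.{u} p (.te6 q)
  td4 : ∀ q, ¬ p ∣ q → RowOf.{u} p (.td4 q)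
  tf4 : ∀ q, RowOf.{u} p (.tf4 q)

/-- the sporadic rows for `p = 3` -/
structure Spor3 : Prop where
  tits : SRow.{u} 3 .tits
  m12 : SRow.{u} 3 .m12
  m24 : SRow.{u} 3 .m24
  j2 : SRow.{u} 3 .j2
  j3 : SRow.{u} 3 .j3
  j4 : SRow.{u} 3 .j4
  co1 : SRow.{u} 3 .co1
  co2 : SRow.{u} 3 .co2
  co3 : SRow.{u} 3 .co3
  mcl : SRow.{u} 3 .mcl
  suz : SRow.{u} 3 .suz
  he : SRow.{u} 3 .he
  ru : SRow.{u} 3 .ru
  on : SRow.{u} 3 .on
  ly : SRow.{u} 3 .ly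
  fi22 : SRow.{u} 3 .fi22
  fi23 : SRow.{u} 3 .fi23
  fi24 : SRow.{u} 3 .fi24
  hn : SRow.{u} 3 .hn
  th : SRow.{u} 3 .th
  b : SRow.{u} 3 .b
  m : SRow.{u} 3 .m

/-- the sporadic rows for `p = 5` -/
structure Spor5 : Prop where
  tits : SRow.{u} 5 .tits
  j2 : SRow.{u} 5 .j2
  co1 : SRow.{u} 5 .co1
  co2 : SRow.{u} 5 .co2
  co3 : SRow.{u} 5 .co3
  mcl : SRow.{u} 5 .mcl
  hs : SRow.{u} 5 .hs
  suz : SRow.{u} 5 .suz
  he : SRow.{u} 5 .he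
  ru : SRow.{u} 5 .ru
  ly : SRow.{u} 5 .ly
  fi22 : SRow.{u} 5 .fi22
  fi23 : SRow.{u} 5 .fi23
  fi24 : SRow.{u} 5 .fi24
  hn : SRow.{u} 5 .hn
  th : SRow.{u} 5 .th
  b : SRow.{u} 5 .b
  m : SRow.{u} 5 .m

/-- the sporadic rows for `p = 7` -/
structure Spor7 : Prop where
  he : SRow.{u} 7 .he
  on : SRow.{u} 7 .on
  fi24 : SRow.{u} 7 .fi24
  co1 : SRow.{u} 7 .co1
  th : SRow.{u} 7 .th
  b : SRow.{u} 7 .b
  m : SRow.{u} 7 .m

/-- the list of the sporadic names -/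
def names : List Grp := [Grp.tits, .m11, .m12, .m22, .m23, .m24, .j1, .j2, .j3, .j4, .co1, .co2, .co3, .mcl, .hs, .suz,
  .he, .ru, .on, .ly, .fi22, .fi23, .fi24, .hn, .th, .b, .m]

theorem Spor3.row (C : Spor3.{u}) {g : Grp} (hg : g ∈ [Grp.tits, .m12, .m24, .j2, .j3, .j4, .co1, .co2, .co3, .mcl, .suz, .he, .ru, .on, .ly, .fi22, .fi23, .fi24, .hn, .th, .b, .m]) : SRow.{u} 3 g := by
  simp only [List.mem_cons, List.not_mem_nil, or_false] at hg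
  rcases hg with rfl | rfl | rfl | rfl | rfl | rfl | rfl | rfl | rfl | rfl | rfl | rfl | rfl | rfl | rfl | rfl | rfl | rfl | rfl | rfl | rfl | rfl
  · exact C.tits
  · exact C.m12
  · exact C.m24
  · exact C.j2
  · exact C.j3
  · exact C.j4
  · exact C.co1
  · exact C.co2
  · exact C.co3
  · exact C.mcl
  · exact C.suz
  · exact C.he
  · exact C.ru
  · exact C.on
  · exact C.ly
  · exact C.fi22
  · exact C.fi23
  · exact C.fi24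
  · exact C.hn
  · exact C.th
  · exact C.b
  · exact C.m

theorem Spor5.row (C : Spor5.{u}) {g : Grp} (hg : g ∈ [Grp.tits, .j2, .co1, .co2, .co3, .mcl, .hs, .suz, .he, .ru, .ly, .fi22, .fi23, .fi24, .hn, .th, .b, .m]) : SRow.{u} 5 g := by
  simp only [List.mem_cons, List.not_mem_nil, or_false] at hg
  rcases hg with rfl | rfl | rfl | rfl | rfl | rfl | rfl | rfl | rfl | rfl | rfl | rfl | rfl | rfl | rfl | rfl | rfl | rfl
  · exact C.tits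
  · exact C.j2
  · exact C.co1
  · exact C.co2
  · exact C.co3
  · exact C.mcl
  · exact C.hs
  · exact C.suz
  · exact C.he
  · exact C.ru
  · exact C.ly
  · exact C.fi22
  · exact C.fi23
  · exact C.fi24
  · exact C.hn
  · exact C.th
  · exact C.b
  · exact C.m

theorem Spor7.row (C : Spor7.{u}) {g : Grp} (hg : g ∈ [Grp.he, .on, .fi24, .co1, .th, .b, .m]) : SRow.{u} 7 g := by
  simp only [List.mem_cons, List.not_mem_nil, or_false] at hg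
  rcases hg with rfl | rfl | rfl | rfl | rfl | rfl | rfl
  · exact C.he
  · exact C.on
  · exact C.fi24
  · exact C.co1
  · exact C.th
  · exact C.b
  · exact C.m

variable {p : ℕ} [hp : Fact p.Prime]

theorem row_spor (hp3 : p = 3 ∨ p = 5 ∨ p = 7) (C3 : Spor3.{u}) (C5 : Spor5.{u}) (C7 : Spor7.{u}) {g : Grp}
    (hg : g ∈ names) : RowOf.{u} p g := by
  intro S _ _ _ hR h
  rcases H795.K6.spor_cases hp3 hR.two hR.three g h hg with ⟨rfl, h1⟩ | ⟨rfl, h1⟩ | ⟨rfl, h1⟩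
  · exact C3.row h1 S h
  · exact C5.row h1 S h
  · exact C7.row h1 S h

theorem cross_of (hp3 : p = 3 ∨ p = 5 ∨ p = 7) (L : LieRows.{u} p) (C3 : Spor3.{u}) (C5 : Spor5.{u})
    (C7 : Spor7.{u}) : Cross.{u} p where
  psl3 := L.psl3
  psl1 := L.psl1
  psl2 := L.psl2
  psl_more := L.psl_more
  psu3 := L.psu3
  psu1 := L.psu1
  psu2 := L.psu2
  psu_more := L.psu_more
  psp_four := L.psp_four
  psp_one := L.psp_one
  psp_more := L.psp_more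
  oodd_one := L.oodd_one
  oodd_more := L.oodd_more
  oplus_one := L.oplus_one
  oplus_more := L.oplus_more
  oplus_four := L.oplus_four
  ominus_one := L.ominus_one
  ominus_more := L.ominus_more
  g2 := L.g2
  f4 := L.f4
  e6 := L.e6
  e7 := L.e7
  e8 := L.e8
  te6 := L.te6
  td4 := L.td4
  tf4 := L.tf4
  sz q S _ _ _ hR h := (H795.K6.sz_ree_false (q := q) hR.pr hR.nc _ (Or.inl rfl) h).elim
  ree q h3 S _ _ _ hR h := (H795.K6.sz_ree_false (q := q) hR.pr hR.nc _ (Or.inr ⟨rfl, h3⟩) h).elim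
  tits := row_spor hp3 C3 C5 C7 (by decide)
  m11 := row_spor hp3 C3 C5 C7 (by decide)
  m12 := row_spor hp3 C3 C5 C7 (by decide)
  m22 := row_spor hp3 C3 C5 C7 (by decide)
  m23 := row_spor hp3 C3 C5 C7 (by decide)
  m24 := row_spor hp3 C3 C5 C7 (by decide)
  j1 := row_spor hp3 C3 C5 C7 (by decide)
  j2 := row_spor hp3 C3 C5 C7 (by decide)
  j3 := row_spor hp3 C3 C5 C7 (by decide)
  j4 := row_spor hp3 C3 C5 C7 (by decide)
  co1 := row_spor hp3 C3 C5 C7 (by decide)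
  co2 := row_spor hp3 C3 C5 C7 (by decide)
  co3 := row_spor hp3 C3 C5 C7 (by decide)
  mcl := row_spor hp3 C3 C5 C7 (by decide)
  hs := row_spor hp3 C3 C5 C7 (by decide)
  suz := row_spor hp3 C3 C5 C7 (by decide)
  he := row_spor hp3 C3 C5 C7 (by decide)
  ru := row_spor hp3 C3 C5 C7 (by decide)
  on := row_spor hp3 C3 C5 C7 (by decide)
  ly := row_spor hp3 C3 C5 C7 (by decide)
  fi22 := row_spor hp3 C3 C5 C7 (by decide)
  fi23 := row_spor hp3 C3 C5 C7 (by decide)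
  fi24 := row_spor hp3 C3 C5 C7 (by decide)
  hn := row_spor hp3 C3 C5 C7 (by decide)
  th := row_spor hp3 C3 C5 C7 (by decide)
  b := row_spor hp3 C3 C5 C7 (by decide)
  m := row_spor hp3 C3 C5 C7 (by decide)

end Cfsg.Agent.H693.K6
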